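import Groth.Agent.CohFin.Leray
import Groth.Agent.CohTwo.IdealMulPow

/-!
Cohomology along affine morphisms, linearly.
-/

universe u

open CategoryTheory CategoryTheory.Limits AlgebraicGeometry TopologicalSpace Opposite

namespace Groth.CohFin

open Groth.CohBase

variable {A : Type u} [CommRing A] {X Z : Scheme.{u}}

/-- Direct image along an affine morphism is exact on quasi-coherent modules. -/
lemma shortExact_push_affine (g : X ⟶ Z) [IsAffineHom g] {S : ShortComplex X.Modules}
    (hS : S.ShortExact) [S.X₁.IsQuasicoherent] [S.X₂.IsQuasicoherent] [S.X₃.IsQuasicoherent] :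
    (S.map (Scheme.Modules.pushforward g)).ShortExact := by
  haveI := hS.mono_f
  haveI := hS.epi_g
  haveI := Groth.QCohMod.isQCoh_pushforward S.X₂ g
  haveI := Groth.QCohMod.isQCoh_pushforward S.X₃ g
  refine { exact := hS.exact.map_of_mono_of_preservesKernel _ hS.mono_f inferInstance
           mono_f := inferInstanceAs (Mono ((Scheme.Modules.pushforward g).map S.f))
           epi_g := ?_ }
  change Epi ((Scheme.Modules.pushforward g).map S.g)
  refine Preadditive.epi_of_cokernel_zero (Groth.CohTwo.eq_zero_of_affine_cover _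
    (fun V : Z.affineOpens => V.1) (fun V => V.2) (fun x => ?_) fun V t => ?_)
  · obtain ⟨V, hV, hx⟩ := Groth.QCohMod.exists_affine_mem x
    exact ⟨⟨V, hV⟩, hx⟩
  · obtain ⟨y, hy⟩ := Groth.QCohMod.app_surjective_of_epi S.g (V.2.preimage g)
      (show Γ(S.X₃, g ⁻¹ᵁ V.1) from t)
    have h : ((Scheme.Modules.pushforward g).map S.g).app V.1
        (show Γ((Scheme.Modules.pushforward g).obj S.X₂, V.1) from y) = t := hy
    rw [← h]
    exact congr(($(cokernel.condition ((Scheme.Modules.pushforward g).map S.g))).app V.1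
      (show Γ((Scheme.Modules.pushforward g).obj S.X₂, V.1) from y))

/-- `H^n(Z, g_* M) ≅ H^n(X, M)`, linearly, for an affine morphism `g`. -/
theorem nonempty_linearEquiv_push (g : X ⟶ Z) [IsAffineHom g] (s : Z ⟶ Spec (CommRingCat.of A))
    [CompactSpace X] [X.IsSeparated] [Z.IsSeparated] (n : ℕ) (M : X.Modules) [M.IsQuasicoherent] :
    Nonempty (HA s ((Scheme.Modules.pushforward g).obj M) n ≃ₗ[A] HA (g ≫ s) M n) := by
  induction n generalizing M with
  | zero => exact ⟨pushZero g s M⟩
  | succ n ih =>
    obtain ⟨E⟩ := nonempty_acycEmb g M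
    haveI := E.mono
    haveI := E.qcoh
    let S := ShortComplex.mk E.ι (cokernel.π E.ι) (cokernel.condition _)
    have hS : S.ShortExact :=
      { exact := ShortComplex.exact_of_g_is_cokernel _ (cokernelIsCokernel E.ι)
        mono_f := E.mono
        epi_g := inferInstanceAs (Epi (cokernel.π E.ι)) }
    haveI : S.X₁.IsQuasicoherent := ‹M.IsQuasicoherent›
    haveI : S.X₂.IsQuasicoherent := E.qcoh
    haveI : S.X₃.IsQuasicoherent := inferInstanceAs (cokernel E.ι).IsQuasicoherent
    have hS' := shortExact_push_affine g hS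
    have hδ : Function.Surjective (delta (f := g ≫ s) hS n) := fun y =>
      ((exact_delta_mapL (f := g ≫ s) hS n) y).1 (@Subsingleton.elim _ (E.hX n) _ _)
    have hδ' : Function.Surjective (delta (f := s) hS' n) := fun y =>
      ((exact_delta_mapL (f := s) hS' n) y).1 (@Subsingleton.elim _ (E.hZ n) _ _)
    rcases n with _ | n
    · let p := pushZero g s (cokernel E.ι)
      have hker : (LinearMap.ker (delta (f := s) hS' 0)).map p.toLinearMap =
          LinearMap.ker (delta (f := g ≫ s) hS 0) := by
        ext x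
        constructor
        · rintro ⟨x', hx', rfl⟩
          obtain ⟨y, rfl⟩ := (exact_mapL_delta (f := s) hS' 0 x').1 hx'
          refine (exact_mapL_delta (f := g ≫ s) hS 0 _).2 ⟨pushZero g s E.I y, ?_⟩
          exact (pushZero_mapL g s (cokernel.π E.ι) y).symm
        · intro hx
          obtain ⟨y, rfl⟩ := (exact_mapL_delta (f := g ≫ s) hS 0 x).1 hx
          refine ⟨mapL s ((Scheme.Modules.pushforward g).map (cokernel.π E.ι)) 0
            ((pushZero g s E.I).symm y), (exact_mapL_delta (f := s) hS' 0 _).2 ⟨_, rfl⟩, ?_⟩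
          refine (pushZero_mapL g s (cokernel.π E.ι) _).trans ?_
          rw [LinearEquiv.apply_symm_apply]
      exact ⟨((delta (f := s) hS' 0).quotKerEquivOfSurjective hδ').symm ≪≫ₗ
        Submodule.Quotient.equiv _ _ p hker ≪≫ₗ
        (delta (f := g ≫ s) hS 0).quotKerEquivOfSurjective hδ⟩
    · obtain ⟨e⟩ := ih (cokernel E.ι)
      have hi : Function.Injective (delta (f := g ≫ s) hS (n + 1)) :=
        (injective_iff_map_eq_zero _).2 fun x hx => by
          obtain ⟨y, rfl⟩ := (exact_mapL_delta (f := g ≫ s) hS (n + 1) x).1 hx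
          rw [show y = 0 from @Subsingleton.elim _ (E.hX n) _ _, map_zero]
      have hi' : Function.Injective (delta (f := s) hS' (n + 1)) :=
        (injective_iff_map_eq_zero _).2 fun x hx => by
          obtain ⟨y, rfl⟩ := (exact_mapL_delta (f := s) hS' (n + 1) x).1 hx
          rw [show y = 0 from @Subsingleton.elim _ (E.hZ n) _ _, map_zero]
      exact ⟨(LinearEquiv.ofBijective (delta (f := s) hS' (n + 1)) ⟨hi', hδ'⟩).symm ≪≫ₗ e ≪≫ₗ
        LinearEquiv.ofBijective (delta (f := g ≫ s) hS (n + 1)) ⟨hi, hδ⟩⟩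

theorem hFin_push_affine_iff (g : X ⟶ Z) [IsAffineHom g] (s : Z ⟶ Spec (CommRingCat.of A))
    [CompactSpace X] [X.IsSeparated] [Z.IsSeparated] (n : ℕ) (M : X.Modules) [M.IsQuasicoherent] :
    HFin s ((Scheme.Modules.pushforward g).obj M) n ↔ HFin (g ≫ s) M n := by
  obtain ⟨e⟩ := nonempty_linearEquiv_push g s n M
  exact Module.Finite.equiv_iff e

end Groth.CohFin
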