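import Groth.Agent.CohFin.PushAffine
import Groth.Agent.CohTwo.Devissage
import Groth.Agent.S10865
import Groth.Agent.S0025
import Mathlib.AlgebraicGeometry.ZariskisMainTheorem

/-!
Finiteness of the cohomology of coherent modules on proper schemes over a Noetherian ring, from
finiteness on projective spaces and Chow's lemma.
-/

universe u

open CategoryTheory CategoryTheory.Limits AlgebraicGeometry TopologicalSpace Opposite

namespace Groth.CohFin

open Groth.CohBase

/-- Coherent cohomology of projective spaces over Noetherian rings is finite. -/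
def ProjFinite : Prop :=
  ∀ (n : ℕ) (B : Type u) [CommRing B] [IsNoetherianRing B]
    (M : (CohB1.ProjSpaceOver n (Spec (CommRingCat.of B))).Modules), Coh.IsCoh M → ∀ i,
      HFin (CohB1.ProjSpaceOver.toBase n (Spec (CommRingCat.of B))) M i

lemma isSeparated_toBase (n : ℕ) (S : Scheme.{u}) : IsSeparated (CohB1.ProjSpaceOver.toBase n S) := by
  haveI : IsSeparated (CohB1.ProjSpace.toSpec n (ULift.{u} ℤ)) := by
    unfold CohB1.ProjSpace.toSpec CohB1.ProjSpace
    infer_instance
  exact inferInstanceAs (IsSeparated (pullback.snd (CohB1.ProjSpace.toSpec n (ULift.{u} ℤ))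
    (specULiftZIsTerminal.from S)))

variable {A : Type u} [CommRing A]

lemma compactSpace_of_proper {X : Scheme.{u}} (f : X ⟶ Spec (CommRingCat.of A)) [IsProper f] :
    CompactSpace X :=
  QuasiCompact.compactSpace_of_compactSpace f

lemma isSeparated_of_proper {X : Scheme.{u}} (f : X ⟶ Spec (CommRingCat.of A)) [IsSeparated f] :
    X.IsSeparated := by
  rw [Scheme.isSeparated_iff]
  have h : terminal.from X = f ≫ terminal.from (Spec (CommRingCat.of A)) := Subsingleton.elim _ _
  rw [h]
  infer_instance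

/-- An immersion of a scheme proper over `S` into a separated `S`-scheme is a closed immersion. -/
lemma isClosedImmersion_of_proper {X P S : Scheme.{u}} (j : X ⟶ P) (p : P ⟶ S) [IsImmersion j]
    [IsSeparated p] [IsProper (j ≫ p)] : IsClosedImmersion j := by
  haveI : IsProper j := IsProper.of_comp j p
  exact (IsClosedImmersion.iff_isProper_and_mono j).2 ⟨inferInstance, inferInstance⟩

/-- Finiteness on schemes with a closed immersion into projective space over the base. -/
lemma hFin_of_closed_projSpace (hP : ProjFinite.{u}) {B : Type u} [CommRing B] [IsNoetherianRing B]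
    {W : Scheme.{u}} (g : W ⟶ Spec (CommRingCat.of B)) (n : ℕ)
    (j : W ⟶ CohB1.ProjSpaceOver n (Spec (CommRingCat.of B))) [IsClosedImmersion j]
    (hj : j ≫ CohB1.ProjSpaceOver.toBase n (Spec (CommRingCat.of B)) = g)
    {M : W.Modules} (hM : Coh.IsCoh M) (i : ℕ) : HFin g M i := by
  subst hj
  haveI := hM.1
  haveI := isSeparated_toBase n (Spec (CommRingCat.of B))
  haveI := isSeparated_of_proper (CohB1.ProjSpaceOver.toBase n (Spec (CommRingCat.of B)))
  haveI : QuasiCompact (CohB1.ProjSpaceOver.toBase n (Spec (CommRingCat.of B))) := by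
    haveI : QuasiCompact (CohB1.ProjSpace.toSpec n (ULift.{u} ℤ)) := by
      unfold CohB1.ProjSpace.toSpec CohB1.ProjSpace
      infer_instance
    exact inferInstanceAs (QuasiCompact (pullback.snd (CohB1.ProjSpace.toSpec n (ULift.{u} ℤ))
      (specULiftZIsTerminal.from (Spec (CommRingCat.of B)))))
  haveI : CompactSpace (CohB1.ProjSpaceOver n (Spec (CommRingCat.of B))) :=
    QuasiCompact.compactSpace_of_compactSpace
      (CohB1.ProjSpaceOver.toBase n (Spec (CommRingCat.of B)))
  haveI : CompactSpace W := QuasiCompact.compactSpace_of_compactSpace j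
  haveI : W.IsSeparated := isSeparated_of_proper (j ≫ CohB1.ProjSpaceOver.toBase n _)
  exact (hFin_push_affine_iff j _ i M).1 (hP n B _ (Groth.CohTwo.isCoh_push j hM) i)

/-- The preimage of an affine open of a morphism factoring through projective space over the base. -/
lemma hFin_preimage (hP : ProjFinite.{u}) [IsNoetherianRing A] {X Z : Scheme.{u}} (π : X ⟶ Z)
    [IsProper π] (s : Z ⟶ Spec (CommRingCat.of A)) [IsLocallyNoetherian Z] (n : ℕ)
    (j : X ⟶ CohB1.ProjSpaceOver n (Spec (CommRingCat.of A))) [IsImmersion j]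
    (hj : j ≫ CohB1.ProjSpaceOver.toBase n (Spec (CommRingCat.of A)) = π ≫ s)
    {V : Z.Opens} (hV : IsAffineOpen V) {M : (π ⁻¹ᵁ V : X.Opens).toScheme.Modules} (hM : Coh.IsCoh M)
    (i : ℕ) : HFin (overPreimage π V) M i := by
  haveI : IsNoetherianRing Γ(Z, V) := IsLocallyNoetherian.component_noetherian (X := Z) ⟨V, hV⟩
  have he : overPreimage π V = (π ∣_ V) ≫ hV.isoSpec.hom :=
    Scheme.Opens.toSpecΓ_naturality π V
  haveI : IsProper (overPreimage π V) := by
    rw [he]
    haveI : IsProper (π ∣_ V) := IsZariskiLocalAtTarget.restrict ‹IsProper π› V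
    infer_instance
  let k : ↑(π ⁻¹ᵁ V) ⟶ CohB1.ProjSpaceOver n (Spec Γ(Z, V)) :=
    pullback.lift ((π ⁻¹ᵁ V).ι ≫ j ≫ pullback.fst _ _) (overPreimage π V)
      (specULiftZIsTerminal.hom_ext _ _)
  have hk : k ≫ CohB1.ProjSpaceOver.toBase n (Spec Γ(Z, V)) = overPreimage π V :=
    pullback.lift_snd _ _ _
  let q : CohB1.ProjSpaceOver n (Spec Γ(Z, V)) ⟶ CohB1.ProjSpaceOver n (Spec (CommRingCat.of A)) :=
    pullback.lift (pullback.fst _ _)
      (CohB1.ProjSpaceOver.toBase n (Spec Γ(Z, V)) ≫ hV.fromSpec ≫ s)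
      (specULiftZIsTerminal.hom_ext _ _)
  have hkq : k ≫ q = (π ⁻¹ᵁ V).ι ≫ j := by
    refine pullback.hom_ext ?_ ?_
    · erw [Category.assoc, Category.assoc, pullback.lift_fst]
      exact pullback.lift_fst _ _ _
    · erw [Category.assoc, Category.assoc, pullback.lift_snd, ← Category.assoc, hk]
      rw [he]
      change ((π ∣_ V) ≫ hV.isoSpec.hom) ≫ hV.fromSpec ≫ s =
        (π ⁻¹ᵁ V).ι ≫ j ≫ CohB1.ProjSpaceOver.toBase n (Spec (CommRingCat.of A))
      rw [hj, Category.assoc, hV.isoSpec_hom_fromSpec_assoc, morphismRestrict_ι_assoc]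
  haveI : IsImmersion (k ≫ q) := by
    rw [hkq]
    infer_instance
  haveI : IsImmersion k := IsImmersion.of_comp k q
  haveI := isSeparated_toBase n (Spec Γ(Z, V))
  haveI : IsProper (k ≫ CohB1.ProjSpaceOver.toBase n (Spec Γ(Z, V))) := by
    rw [hk]
    infer_instance
  haveI := isClosedImmersion_of_proper k (CohB1.ProjSpaceOver.toBase n (Spec Γ(Z, V)))
  exact hFin_of_closed_projSpace hP (B := Γ(Z, V)) (overPreimage π V) n k hk hM i

/-- Restriction to an open preserves coherence. -/
lemma isCoh_restrict {X : Scheme.{u}} [IsLocallyNoetherian X] {M : X.Modules} (hM : Coh.IsCoh M)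
    (U : X.Opens) : Coh.IsCoh (M.restrict U.ι) := by
  haveI := hM.1
  refine (Groth.QCohMod.isCoh_iff _).2 ⟨inferInstance, fun V hV => ?_⟩
  haveI := Groth.QCohMod.finite_sections M hM.2 (hV.image_of_isOpenImmersion U.ι)
  let σ : Γ(X, U.ι ''ᵁ V) →+* Γ(↑U, V) := (U.ι.appIso V).hom.hom
  obtain ⟨G, hG⟩ := (Module.Finite.fg_top :
    (⊤ : Submodule Γ(X, U.ι ''ᵁ V) Γ(M, U.ι ''ᵁ V)).FG)
  refine ⟨⟨(show Finset Γ(M.restrict U.ι, V) from G), eq_top_iff.2 fun m _ => ?_⟩⟩
  let S := Submodule.span Γ(↑U, V) (show Set Γ(M.restrict U.ι, V) from (G : Set Γ(M, U.ι ''ᵁ V)))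
  change m ∈ S
  refine Submodule.span_induction (R := Γ(X, U.ι ''ᵁ V)) (M := Γ(M, U.ι ''ᵁ V))
    (s := (G : Set Γ(M, U.ι ''ᵁ V)))
    (p := fun v _ => (show Γ(M.restrict U.ι, V) from v) ∈ S)
    (fun v hv => Submodule.subset_span hv) S.zero_mem (fun a b _ _ ha hb => S.add_mem ha hb)
    (fun c v _ hv => ?_) (hG.ge (trivial : (show Γ(M, U.ι ''ᵁ V) from m) ∈ ⊤))
  have h := S.smul_mem (σ c) hv
  have e : (σ c) • (show Γ(M.restrict U.ι, V) from v) = (show Γ(M.restrict U.ι, V) from c • v) := by
    change ((U.ι.appIso V).inv ((U.ι.appIso V).hom c)) • v = c • v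
    rw [Iso.hom_inv_id_apply]
  rwa [e] at h

/-- A coherent witness on an integral proper scheme, from Chow's lemma. -/
theorem exists_witness (hP : ProjFinite.{u}) [IsNoetherianRing A] {Z : Scheme.{u}}
    (s : Z ⟶ Spec (CommRingCat.of A)) [IsProper s] [IsIntegral Z] (q : ℕ)
    (hlow : ∀ G : Z.Modules, Coh.IsCoh G → ∀ p < q, HFin s G p) :
    ∃ H : Z.Modules, Coh.IsCoh H ∧ Nontrivial (H.presheaf.stalk (genericPoint Z)) ∧ HFin s H q := by
  haveI : IsLocallyNoetherian Z := LocallyOfFiniteType.isLocallyNoetherian s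
  haveI : IsNoetherian (Spec (CommRingCat.of A)) := inferInstance
  obtain ⟨n, X, π, j, hj, hje, hπ, hsurj, -⟩ := Groth.Agent.S0025.result s
  haveI := hj
  haveI := hπ
  haveI := hsurj
  haveI : IsProper (π ≫ s) := inferInstance
  haveI := compactSpace_of_proper (π ≫ s)
  haveI := isSeparated_of_proper (π ≫ s)
  haveI := isSeparated_of_proper s
  haveI : IsLocallyNoetherian X := LocallyOfFiniteType.isLocallyNoetherian (π ≫ s)
  have hO : Coh.IsCoh (Coh.structureModule X) := Groth.QCohMod.isCoh_unit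
  haveI := hO.1
  haveI := isSeparated_toBase n (Spec (CommRingCat.of A))
  haveI : IsProper (j ≫ CohB1.ProjSpaceOver.toBase n (Spec (CommRingCat.of A))) := by
    rw [hje]
    infer_instance
  haveI := isClosedImmersion_of_proper j (CohB1.ProjSpaceOver.toBase n (Spec (CommRingCat.of A)))
  refine ⟨(Scheme.Modules.pushforward π).obj (Coh.structureModule X), ?_, ?_, ?_⟩
  · haveI := Groth.QCohMod.isQCoh_pushforward (Coh.structureModule X) π
    refine (Groth.QCohMod.isCoh_iff _).2 ⟨inferInstance, fun V hV => ?_⟩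
    haveI : Module.Finite Γ(Z, V)
        (HA (overPreimage π V) ((Coh.structureModule X).restrict (π ⁻¹ᵁ V).ι) 0) :=
      hFin_preimage hP π s n j hje hV (isCoh_restrict hO _) 0
    exact Module.Finite.equiv
      (LinearEquiv.ofBijective _ (preimageSec_bijective π (Coh.structureModule X) V))
  · obtain ⟨x, hx⟩ := π.surjective (genericPoint Z)
    rw [← not_subsingleton_iff_nontrivial]
    intro hsub
    let one : Γ((Scheme.Modules.pushforward π).obj (Coh.structureModule X), ⊤) :=
      show Γ(X, ⊤) from 1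
    obtain ⟨U, hU, i₁, i₂, hUeq⟩ := TopCat.Presheaf.germ_eq
      ((Scheme.Modules.pushforward π).obj (Coh.structureModule X)).presheaf (genericPoint Z)
      (U := ⊤) (V := ⊤) trivial trivial one 0 (hsub.elim _ _)
    rw [map_zero] at hUeq
    have hone : X.presheaf.map (homOfLE (le_top : π ⁻¹ᵁ U ≤ ⊤)).op (1 : Γ(X, ⊤)) = 0 := hUeq
    rw [map_one] at hone
    have hx' : x ∈ π ⁻¹ᵁ U := by
      change π x ∈ U
      rw [hx]
      exact hU
    exact one_ne_zero ((map_one (X.presheaf.germ (π ⁻¹ᵁ U) x hx').hom).symm.trans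
      ((congrArg (X.presheaf.germ (π ⁻¹ᵁ U) x hx') hone).trans (map_zero _)))
  · exact hFin_push_of_fibres π s q _
      (hFin_of_closed_projSpace hP (π ≫ s) n j hje hO q)
      (fun t _ _ V hV => hFin_preimage hP π s n j hje hV (isCoh_restrict hO _) t) hlow

/-- Finiteness of coherent cohomology of proper schemes over Noetherian rings, given it for
projective spaces. -/
theorem hFin_of_proper (hP : ProjFinite.{u}) [IsNoetherianRing A] (q : ℕ) :
    ∀ (X : Scheme.{u}) (f : X ⟶ Spec (CommRingCat.of A)) [IsProper f] (F : X.Modules),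
      Coh.IsCoh F → HFin f F q := by
  induction q using Nat.strong_induction_on with
  | _ q ih =>
  intro X f hf F hF
  rcases isEmpty_or_nonempty X with hX | hX
  · exact hFin_of_isZero ((Groth.QCohMod.isZero_iff_support_eq_empty F).2
      (Set.eq_empty_of_forall_notMem fun x => isEmptyElim x)) q
  haveI : IsLocallyNoetherian X := LocallyOfFiniteType.isLocallyNoetherian f
  haveI := compactSpace_of_proper f
  haveI := isSeparated_of_proper f
  haveI : IsNoetherian X := ⟨⟩
  let K : ObjectProperty X.Modules := fun G => HFin f G q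
  haveI : K.IsClosedUnderIsomorphisms := ⟨fun e h => hFin_of_iso e h⟩
  refine Groth.Agent.S10865.result X K (fun S hS h₁ h₂ h₃ => ⟨fun k₂ k₃ => ?_, fun k₁ k₃ =>
    hFin_middle hS k₁ k₃⟩) (fun G d hd hG hK => ?_) (fun Z i _ _ => ?_) F hF
  · rcases q with _ | q
    · exact hFin_first_zero hS k₂
    · exact hFin_first hS (ih q (Nat.lt_succ_self q) X f _ h₃) k₂
  · exact hFin_of_retract (Sigma.ι (fun _ : Fin d => G) ⟨0, hd⟩) (Groth.CohTwo.powProj G ⟨0, hd⟩)
      ((Groth.CohTwo.ι_powProj G _ _).trans (if_pos rfl)) hK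
  · obtain ⟨H, hH, hne, hfin⟩ := exists_witness hP (i ≫ f) q
      (fun G hG p hp => ih p hp Z (i ≫ f) G hG)
    haveI := hH.1
    haveI := compactSpace_of_proper (i ≫ f)
    haveI := isSeparated_of_proper (i ≫ f)
    exact ⟨H, hH, hne, (hFin_push_affine_iff i f q H).2 hfin⟩

end Groth.CohFin
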