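import Groth.Agent.CohFin.Atlas
import Groth.Agent.CohFin.Proper
import Groth.Agent.Chow.ProjEmb.Data

/-!
Finiteness of the cohomology of coherent modules on projective space over a Noetherian ring.
-/

universe u

open CategoryTheory CategoryTheory.Limits AlgebraicGeometry TopologicalSpace Opposite

namespace Groth.CohFin

open Groth.Chow (PEmb.W PEmb.coordOn)
open Groth.QCohMod (resFun resFun_resFun resFun_self)

variable (n : ℕ) (B : Type u) [CommRing B]

local notation "PP" => CohB1.ProjSpaceOver n (Spec (CommRingCat.of B))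
local notation "idP" => 𝟙 (CohB1.ProjSpaceOver n (Spec (CommRingCat.of B)))

/-- The standard charts of projective space over `Spec B`. -/
noncomputable def projAtlas :
    Atlas (CohB1.ProjSpaceOver.toBase n (Spec (CommRingCat.of B))) (ULift.{u} (Fin (n + 1))) where
  U k := PEmb.W idP k.down ⊤
  cov := by
    rw [eq_top_iff]
    intro x _
    obtain ⟨k, hk⟩ := Opens.mem_iSup.1 ((Groth.Chow.PEmb.iSup_W idP ⊤).ge
      (show x ∈ Groth.Chow.PEmb.strMap idP ⁻¹ᵁ ⊤ from trivial))
    exact Opens.mem_iSup.2 ⟨⟨k⟩, hk⟩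
  affine k := Groth.Chow.PEmb.isAffineOpen_W idP k.down (isAffineOpen_top _)
  coord i j := PEmb.coordOn idP j.down i.down _ (Groth.Chow.PEmb.W_le_Xo idP j.down ⊤)
  inf_eq i j := Groth.Chow.PEmb.W_inf idP i.down j.down ⊤
  coord_self j := by
    rw [Groth.Chow.PEmb.coordOn, Groth.Chow.PEmb.coord_self, map_one]
  cocycle i j k := by
    change ((PP).presheaf.map _) _ = ((PP).presheaf.map _) _ * ((PP).presheaf.map _) _
    rw [Groth.Chow.PEmb.map_coordOn, Groth.Chow.PEmb.map_coordOn, Groth.Chow.PEmb.map_coordOn]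
    exact Groth.Chow.PEmb.coordOn_transition idP j.down k.down i.down _ _ _
  gen j := by
    rw [eq_top_iff, ← Groth.Chow.PEmb.W_generated idP j.down (isAffineOpen_top _), Subring.closure_le]
    rintro _ (⟨r, rfl⟩ | ⟨i, rfl⟩)
    · refine Subring.subset_closure (Or.inl ⟨(Scheme.ΓSpecIso (CommRingCat.of B)).hom r, ?_⟩)
      have e : ∀ {g : PP ⟶ Spec (CommRingCat.of B)} (_ : g = CohB1.ProjSpaceOver.toBase n _)
          (h : PEmb.W idP j.down ⊤ ≤ g ⁻¹ᵁ ⊤),
          g.appLE ⊤ (PEmb.W idP j.down ⊤) h =
            (CohB1.ProjSpaceOver.toBase n (Spec (CommRingCat.of B))).appTop ≫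
              (PP).presheaf.map (homOfLE le_top).op := by
        rintro _ rfl h; rfl
      rw [e (Category.id_comp _)]
      change resFun _ le_top ((CohB1.ProjSpaceOver.toBase n (Spec (CommRingCat.of B))).appTop
        ((Scheme.ΓSpecIso (CommRingCat.of B)).inv ((Scheme.ΓSpecIso (CommRingCat.of B)).hom r))) = _
      rw [Iso.hom_inv_id_apply]
      rfl
    · exact Subring.subset_closure (Or.inr ⟨⟨i⟩, rfl⟩)

/-- The cohomology of coherent modules on projective space over a Noetherian ring is finite. -/
theorem projFinite : ProjFinite.{u} := by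
  intro n B _ _ M hM q
  haveI := isSeparated_toBase n (Spec (CommRingCat.of B))
  haveI : Scheme.IsSeparated (CohB1.ProjSpaceOver n (Spec (CommRingCat.of B))) := by
    constructor
    rw [← terminal.comp_from (CohB1.ProjSpaceOver.toBase n (Spec (CommRingCat.of B)))]
    infer_instance
  exact hFin_of_atlas (projAtlas n B) M hM q

end Groth.CohFin
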