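import Groth.Agent.CohBase.Modules
import Groth.Agent.CohBase.GlobalSections
import Groth.Agent.SiteCohomology.SchemeModules
import Mathlib.RingTheory.Noetherian.Basic

/-!
Cohomology of modules over a scheme above `Spec A`, as `A`-modules: functoriality, the long exact
sequence, finiteness in short exact sequences.
-/

universe u

open CategoryTheory CategoryTheory.Limits AlgebraicGeometry TopologicalSpace Opposite
open CategoryTheory.Abelian (Ext)

namespace Groth.CohFin

open Groth.CohBase

/-- `H^n(X, M)` with its `A`-module structure. -/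
def HA {A : Type u} [CommRing A] {X : Scheme.{u}} (_f : X ⟶ Spec (CommRingCat.of A))
    (M : X.Modules) (n : ℕ) : Type u := Coh.HH X M n

variable {A : Type u} [CommRing A] {X : Scheme.{u}} (f : X ⟶ Spec (CommRingCat.of A))

noncomputable instance (M : X.Modules) (n : ℕ) : AddCommGroup (HA f M n) :=
  inferInstanceAs (AddCommGroup (Coh.HH X M n))

noncomputable instance (M : X.Modules) (n : ℕ) : Module A (HA f M n) :=
  Module.compHom (Coh.HH X M n) (Coh.toGlobal f)

/-- All `H^n(X, M)` in degree `n` are finite `A`-modules. -/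
abbrev HFin (M : X.Modules) (n : ℕ) : Prop := Module.Finite A (HA f M n)

/-- The underlying class in `Ext` of a cohomology class. -/
noncomputable abbrev HE (M : X.Modules) (n : ℕ) : Type u :=
  Ext (constZ X.toTopCat) ((toAbF X).obj M) n

/-- Forgetting the module structure. -/
noncomputable def toE (M : X.Modules) (n : ℕ) : HA f M n ≃+ HE M n := AddEquiv.refl _

lemma toE_smul {M : X.Modules} {n : ℕ} (a : A) (x : HA f M n) :
    toE f M n (a • x) = (toE f M n x).comp (Ext.mk₀ (Coh.smulAb M (Coh.toGlobal f a))) (add_zero n) :=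
  rfl

lemma smulAb_naturality {M N : X.Modules} (φ : M ⟶ N) (r : Coh.Γtop X) :
    Coh.smulAb M r ≫ (toAbF X).map φ = (toAbF X).map φ ≫ Coh.smulAb N r := by
  ext U m
  exact (φ.val.app U).hom.map_smul _ _

/-- The map on cohomology of a morphism of modules. -/
noncomputable def mapL {M N : X.Modules} (φ : M ⟶ N) (n : ℕ) : HA f M n →ₗ[A] HA f N n where
  toFun x := (toE f N n).symm ((toE f M n x).comp (Ext.mk₀ ((toAbF X).map φ)) (add_zero n))
  map_add' x y := by rw [map_add, Ext.add_comp, map_add]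
  map_smul' a x := by
    apply (toE f N n).injective
    rw [RingHom.id_apply, toE_smul]
    change Ext.comp ((toE f M n x).comp (Ext.mk₀ (Coh.smulAb M (Coh.toGlobal f a))) (add_zero n))
        (Ext.mk₀ ((toAbF X).map φ)) (add_zero n) =
      Ext.comp ((toE f M n x).comp (Ext.mk₀ ((toAbF X).map φ)) (add_zero n))
        (Ext.mk₀ (Coh.smulAb N (Coh.toGlobal f a))) (add_zero n)
    rw [Ext.comp_assoc_of_second_deg_zero, Ext.comp_assoc_of_second_deg_zero, Ext.mk₀_comp_mk₀,
      Ext.mk₀_comp_mk₀]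
    exact congrArg (fun ψ => (toE f M n x).comp (Ext.mk₀ ψ) (add_zero n))
      (smulAb_naturality φ (Coh.toGlobal f a))

lemma toE_mapL {M N : X.Modules} (φ : M ⟶ N) (n : ℕ) (x : HA f M n) :
    toE f N n (mapL f φ n x) = (toE f M n x).comp (Ext.mk₀ ((toAbF X).map φ)) (add_zero n) :=
  (toE f N n).apply_symm_apply _

lemma mapL_comp {M N P : X.Modules} (φ : M ⟶ N) (ψ : N ⟶ P) (n : ℕ) (x : HA f M n) :
    mapL f (φ ≫ ψ) n x = mapL f ψ n (mapL f φ n x) := by
  apply (toE f P n).injective
  rw [toE_mapL, toE_mapL, toE_mapL, Ext.comp_assoc_of_second_deg_zero, Ext.mk₀_comp_mk₀,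
    Functor.map_comp]

lemma mapL_id (M : X.Modules) (n : ℕ) (x : HA f M n) : mapL f (𝟙 M) n x = x := by
  apply (toE f M n).injective
  rw [toE_mapL, CategoryTheory.Functor.map_id, Ext.comp_mk₀_id]

lemma mapL_add {M N : X.Modules} (φ ψ : M ⟶ N) (n : ℕ) (x : HA f M n) :
    mapL f (φ + ψ) n x = mapL f φ n x + mapL f ψ n x := by
  apply (toE f N n).injective
  rw [map_add, toE_mapL, toE_mapL, toE_mapL, Functor.map_add, Ext.mk₀_add, Ext.comp_add]

lemma mapL_zero {M N : X.Modules} (n : ℕ) (x : HA f M n) : mapL f (0 : M ⟶ N) n x = 0 := by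
  have h := mapL_add f (0 : M ⟶ N) 0 n x
  rw [add_zero] at h
  exact left_eq_add.1 h

section LES

variable {f} {S : ShortComplex X.Modules} (hS : S.ShortExact)

include hS

/-- The extension class of the underlying abelian sheaves. -/
noncomputable def ecls : Ext ((toAbF X).obj S.X₃) ((toAbF X).obj S.X₁) 1 :=
  (shortExact_toAb hS).extClass

/-- The connecting map. -/
noncomputable def delta (n : ℕ) : HA f S.X₃ n →ₗ[A] HA f S.X₁ (n + 1) where
  toFun x := (toE f S.X₁ (n + 1)).symm ((toE f S.X₃ n x).comp (ecls hS) rfl)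
  map_add' x y := by rw [map_add, Ext.add_comp, map_add]
  map_smul' a x := by
    apply (toE f S.X₁ (n + 1)).injective
    rw [RingHom.id_apply, toE_smul]
    change Ext.comp ((toE f S.X₃ n x).comp (Ext.mk₀ (Coh.smulAb S.X₃ (Coh.toGlobal f a))) (add_zero n))
        (ecls hS) rfl =
      Ext.comp ((toE f S.X₃ n x).comp (ecls hS) rfl)
        (Ext.mk₀ (Coh.smulAb S.X₁ (Coh.toGlobal f a))) (add_zero (n + 1))
    rw [Ext.comp_assoc_of_second_deg_zero, Ext.comp_assoc_of_third_deg_zero]
    let r := Coh.toGlobal f a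
    let φ : S.map (toAbF X) ⟶ S.map (toAbF X) :=
      { τ₁ := Coh.smulAb S.X₁ r
        τ₂ := Coh.smulAb S.X₂ r
        τ₃ := Coh.smulAb S.X₃ r
        comm₁₂ := smulAb_naturality S.f r
        comm₂₃ := smulAb_naturality S.g r }
    have h := (shortExact_toAb hS).extClass_naturality (shortExact_toAb hS) φ
    exact congrArg (fun e => (toE f S.X₃ n x).comp e rfl) h.symm

lemma toE_delta (n : ℕ) (x : HA f S.X₃ n) :
    toE f S.X₁ (n + 1) (delta hS n x) = (toE f S.X₃ n x).comp (ecls hS) rfl :=
  (toE f S.X₁ (n + 1)).apply_symm_apply _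

lemma exact_mapL_mapL (n : ℕ) : Function.Exact (mapL f S.f n) (mapL f S.g n) := by
  intro x
  constructor
  · intro hx
    obtain ⟨y, hy⟩ := Ext.covariant_sequence_exact₂ (constZ X.toTopCat) (shortExact_toAb hS)
      (toE f S.X₂ n x) (((toE_mapL f S.g n x).symm.trans (congrArg _ hx)).trans (map_zero _))
    refine ⟨(toE f S.X₁ n).symm y, (toE f S.X₂ n).injective ?_⟩
    exact (toE_mapL f _ n _).trans hy
  · rintro ⟨y, rfl⟩
    rw [← mapL_comp, S.zero, mapL_zero]

lemma exact_mapL_delta (n : ℕ) : Function.Exact (mapL f S.g n) (delta (f := f) hS n) := by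
  intro x
  constructor
  · intro hx
    obtain ⟨y, hy⟩ := Ext.covariant_sequence_exact₃ (constZ X.toTopCat) (shortExact_toAb hS)
      (toE f S.X₃ n x) (rfl : n + 1 = n + 1)
      (((toE_delta hS n x).symm.trans (congrArg _ hx)).trans (map_zero _))
    refine ⟨(toE f S.X₂ n).symm y, (toE f S.X₃ n).injective ?_⟩
    exact (toE_mapL f _ n _).trans hy
  · rintro ⟨y, rfl⟩
    apply (toE f S.X₁ (n + 1)).injective
    rw [toE_delta, toE_mapL, map_zero, Ext.comp_assoc_of_second_deg_zero]
    refine (congrArg (fun e => (toE f S.X₂ n y).comp e rfl) (shortExact_toAb hS).comp_extClass).trans ?_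
    exact Ext.comp_zero _ _ _ _ _

lemma exact_delta_mapL (n : ℕ) : Function.Exact (delta (f := f) hS n) (mapL f S.f (n + 1)) := by
  intro x
  constructor
  · intro hx
    obtain ⟨y, hy⟩ := Ext.covariant_sequence_exact₁ (constZ X.toTopCat) (shortExact_toAb hS)
      (toE f S.X₁ (n + 1) x) (((toE_mapL f S.f (n + 1) x).symm.trans (congrArg _ hx)).trans (map_zero _))
      (rfl : n + 1 = n + 1)
    refine ⟨(toE f S.X₃ n).symm y, (toE f S.X₁ (n + 1)).injective ?_⟩
    exact (toE_delta _ _ _).trans hy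
  · rintro ⟨y, rfl⟩
    apply (toE f S.X₂ (n + 1)).injective
    rw [toE_mapL, toE_delta, map_zero, Ext.comp_assoc_of_third_deg_zero]
    refine (congrArg (fun e => (toE f S.X₃ n y).comp e rfl) (shortExact_toAb hS).extClass_comp).trans ?_
    exact Ext.comp_zero _ _ _ _ _

lemma mapL_zero_injective : Function.Injective (mapL f S.f 0) := by
  haveI : Mono ((toAbF X).map S.f) := (shortExact_toAb hS).mono_f
  intro x y h
  apply (toE f S.X₁ 0).injective
  apply Ext.addEquiv₀.injective
  apply (cancel_mono ((toAbF X).map S.f)).1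
  apply (Ext.mk₀_bijective _ _).injective
  rw [← Ext.mk₀_comp_mk₀, ← Ext.mk₀_comp_mk₀, Ext.mk₀_addEquiv₀_apply, Ext.mk₀_addEquiv₀_apply,
    ← toE_mapL, ← toE_mapL, h]

end LES

section Finite

variable [IsNoetherianRing A] {f}

lemma finite_middle {P Q R : Type u} [AddCommGroup P] [Module A P] [AddCommGroup Q] [Module A Q]
    [AddCommGroup R] [Module A R] (g : P →ₗ[A] Q) (h : Q →ₗ[A] R) (he : Function.Exact g h)
    [Module.Finite A P] [Module.Finite A R] : Module.Finite A Q := by
  haveI : IsNoetherian A P := isNoetherian_of_isNoetherianRing_of_finite A P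
  haveI : IsNoetherian A R := isNoetherian_of_isNoetherianRing_of_finite A R
  haveI : IsNoetherian A Q := isNoetherian_of_range_eq_ker g h he.linearMap_ker_eq.symm
  infer_instance

variable {S : ShortComplex X.Modules} (hS : S.ShortExact)

include hS

lemma hFin_middle {n : ℕ} (h₁ : HFin f S.X₁ n) (h₃ : HFin f S.X₃ n) : HFin f S.X₂ n :=
  finite_middle _ _ (exact_mapL_mapL hS n)

lemma hFin_first_zero (h₂ : HFin f S.X₂ 0) : HFin f S.X₁ 0 :=
  haveI : IsNoetherian A (HA f S.X₂ 0) := isNoetherian_of_isNoetherianRing_of_finite A _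
  Module.Finite.of_injective _ (mapL_zero_injective (f := f) hS)

lemma hFin_first {n : ℕ} (h₃ : HFin f S.X₃ n) (h₂ : HFin f S.X₂ (n + 1)) :
    HFin f S.X₁ (n + 1) :=
  finite_middle _ _ (exact_delta_mapL hS n)

lemma hFin_third {n : ℕ} (h₂ : HFin f S.X₂ n) (h₁ : HFin f S.X₁ (n + 1)) : HFin f S.X₃ n :=
  finite_middle _ _ (exact_mapL_delta hS n)

end Finite

section Retract

variable {f}

lemma hFin_of_retract {M N : X.Modules} (i : N ⟶ M) (r : M ⟶ N) (h : i ≫ r = 𝟙 N) {n : ℕ}
    (hM : HFin f M n) : HFin f N n :=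
  Module.Finite.of_surjective (mapL f r n) fun x =>
    ⟨mapL f i n x, by rw [← mapL_comp, h, mapL_id]⟩

lemma hFin_of_iso {M N : X.Modules} (e : M ≅ N) {n : ℕ} (hM : HFin f M n) : HFin f N n :=
  hFin_of_retract e.inv e.hom e.inv_hom_id hM

lemma subsingleton_of_isZero {M : X.Modules} (hM : IsZero M) (n : ℕ) : Subsingleton (HA f M n) :=
  subsingleton_of_forall_eq 0 fun x => by
    rw [← mapL_id f M n x, (IsZero.iff_id_eq_zero M).1 hM, mapL_zero]

lemma hFin_of_isZero {M : X.Modules} (hM : IsZero M) (n : ℕ) : HFin f M n :=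
  haveI := subsingleton_of_isZero (f := f) hM n
  inferInstance

lemma hFin_of_subsingleton {M : X.Modules} {n : ℕ} (h : Subsingleton (Coh.HH X M n)) :
    HFin f M n :=
  haveI : Subsingleton (HA f M n) := h
  inferInstance

end Retract

/-- Global sections and degree zero cohomology. -/
noncomputable def equivSections (M : X.Modules) : HA f M 0 ≃+ Γ(M, ⊤) :=
  Sheaf.H.equiv₀ (Coh.toAb M) isTerminalTop

lemma equivSections_smul (M : X.Modules) (a : A) (x : HA f M 0) :
    equivSections f M (a • x) = (show Γ(X, ⊤) from Coh.toGlobal f a) • equivSections f M x := by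
  refine (Sheaf.H.equiv₀_naturality isTerminalTop (Coh.smulAb M (Coh.toGlobal f a)) _).symm.trans ?_
  rw [Coh.smulAb_app]
  congr 1
  exact congr($(X.ringCatSheaf.obj.map_id _) (Coh.toGlobal f a))

lemma equivSections_mapL {M N : X.Modules} (φ : M ⟶ N) (x : HA f M 0) :
    equivSections f N (mapL f φ 0 x) = φ.app ⊤ (equivSections f M x) :=
  (Sheaf.H.equiv₀_naturality isTerminalTop ((toAbF X).map φ) _).symm

end Groth.CohFin
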