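import Groth.Agent.CohFin.AcycEmb
import Groth.Agent.QCohMod.Coherent
import Groth.Agent.CohBase.AffineHomCriterion

/-!
A Leray-type comparison: finiteness of the cohomology of a direct image.
-/

universe u

open CategoryTheory CategoryTheory.Limits AlgebraicGeometry TopologicalSpace Opposite

namespace Groth.CohFin

open Groth.CohBase

variable {A : Type u} [CommRing A] {X Z : Scheme.{u}} (π : X ⟶ Z) (s : Z ⟶ Spec (CommRingCat.of A))

lemma toGlobal_comp (a : A) :
    Coh.toGlobal (π ≫ s) a = π.app ⊤ (Coh.toGlobal s a) := by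
  change (π ≫ s).appTop.hom _ = π.app ⊤ (s.appTop.hom _)
  rw [Scheme.Hom.comp_appTop]
  rfl

/-- Global sections of a direct image, as cohomology in degree zero. -/
noncomputable def pushZero (M : X.Modules) :
    HA s ((Scheme.Modules.pushforward π).obj M) 0 ≃ₗ[A] HA (π ≫ s) M 0 :=
  let e : HA s ((Scheme.Modules.pushforward π).obj M) 0 ≃+ HA (π ≫ s) M 0 :=
    ((equivSections s ((Scheme.Modules.pushforward π).obj M)).trans
      (AddEquiv.refl Γ(M, ⊤) : Γ((Scheme.Modules.pushforward π).obj M, ⊤) ≃+ Γ(M, ⊤))).trans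
        (equivSections (π ≫ s) M).symm
  e.toLinearEquiv fun a x => (equivSections (π ≫ s) M).injective (by
    refine Eq.trans ((equivSections (π ≫ s) M).apply_symm_apply _) ?_
    rw [equivSections_smul, toGlobal_comp]
    refine Eq.trans ?_ (congrArg _ ((equivSections (π ≫ s) M).apply_symm_apply _).symm)
    exact equivSections_smul s _ a x)

lemma pushZero_mapL {M N : X.Modules} (φ : M ⟶ N) (x : HA s ((Scheme.Modules.pushforward π).obj M) 0) :
    pushZero π s N (mapL s ((Scheme.Modules.pushforward π).map φ) 0 x) =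
      mapL (π ≫ s) φ 0 (pushZero π s M x) := by
  apply (equivSections (π ≫ s) N).injective
  rw [equivSections_mapL]
  refine ((equivSections (π ≫ s) N).apply_symm_apply _).trans ?_
  refine (equivSections_mapL s _ x).trans (congrArg _ ?_)
  exact ((equivSections (π ≫ s) M).apply_symm_apply _).symm

/-- The preimage of an open over the sections of that open. -/
noncomputable def overPreimage (V : Z.Opens) : ↑(π ⁻¹ᵁ V) ⟶ Spec (CommRingCat.of Γ(Z, V)) :=
  (π ⁻¹ᵁ V).toSpecΓ ≫ Spec.map (π.app V)

lemma toGlobal_overPreimage (V : Z.Opens) (b : Γ(Z, V)) :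
    Coh.toGlobal (overPreimage π V) b = (π ⁻¹ᵁ V).topIso.inv (π.app V b) := by
  change (overPreimage π V).appTop.hom ((Scheme.ΓSpecIso _).inv.hom b) = _
  unfold overPreimage
  rw [Scheme.Hom.comp_appTop, Scheme.Opens.toSpecΓ_appTop]
  have h := congr($(Scheme.ΓSpecIso_inv_naturality (π.app V)) b)
  refine (congrArg (fun t => (π ⁻¹ᵁ V).topIso.inv ((Scheme.ΓSpecIso _).hom t)) h.symm).trans ?_
  exact congrArg (π ⁻¹ᵁ V).topIso.inv ((Scheme.ΓSpecIso _).inv_hom_id_apply _)

/-- Sections of a direct image over an open, from degree zero cohomology of the preimage. -/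
noncomputable def preimageSec (M : X.Modules) (V : Z.Opens) :
    HA (overPreimage π V) (M.restrict (π ⁻¹ᵁ V).ι) 0 →ₗ[Γ(Z, V)]
      Γ((Scheme.Modules.pushforward π).obj M, V) where
  toFun x := Groth.CohTwo.res M (show π ⁻¹ᵁ V ≤ (π ⁻¹ᵁ V).ι ''ᵁ ⊤ by simp)
    (equivSections (overPreimage π V) (M.restrict (π ⁻¹ᵁ V).ι) x)
  map_add' x y := by rw [map_add]; exact map_add _ _ _
  map_smul' b x := by
    rw [equivSections_smul, RingHom.id_apply, toGlobal_overPreimage]
    refine (Groth.CohTwo.res_smul M _ _ _).trans ?_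
    change _ = π.app V b • (show Γ(M, π ⁻¹ᵁ V) from _)
    congr 1
    change Groth.CohTwo.resR X _ (((π ⁻¹ᵁ V).ι.appIso ⊤).inv (X.presheaf.map _ (π.app V b))) = π.app V b
    rw [Scheme.Opens.ι_appIso]
    change Groth.CohTwo.resR X _ (X.presheaf.map _ (π.app V b)) = π.app V b
    exact congr($((X.presheaf.map_comp _ _).symm) (π.app V b)).trans
      (congr($(X.presheaf.map_id _) (π.app V b)))

lemma preimageSec_bijective (M : X.Modules) (V : Z.Opens) :
    Function.Bijective (preimageSec π M V) := by
  have hl : (π ⁻¹ᵁ V).ι ''ᵁ ⊤ ≤ π ⁻¹ᵁ V := by simp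
  have hl' : π ⁻¹ᵁ V ≤ (π ⁻¹ᵁ V).ι ''ᵁ ⊤ := by simp
  let e := equivSections (overPreimage π V) (M.restrict (π ⁻¹ᵁ V).ι)
  refine ⟨fun x y h => ?_, fun y => ⟨e.symm (Groth.CohTwo.res M hl y), ?_⟩⟩
  · apply e.injective
    have h2 := congrArg (Groth.CohTwo.res M hl) h
    exact ((Groth.CohTwo.res_res M _ _ _).trans (Groth.CohTwo.res_rfl M _ _)).symm.trans
      (h2.trans ((Groth.CohTwo.res_res M _ _ _).trans (Groth.CohTwo.res_rfl M _ _)))
  · change Groth.CohTwo.res M hl' (e (e.symm (Groth.CohTwo.res M hl y))) = y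
    refine (congrArg (Groth.CohTwo.res M hl') (e.apply_symm_apply _)).trans ?_
    exact (Groth.CohTwo.res_res M _ _ _).trans (Groth.CohTwo.res_rfl M _ _)

lemma preimageSec_mapL {M N : X.Modules} (φ : M ⟶ N) (V : Z.Opens)
    (x : HA (overPreimage π V) (M.restrict (π ⁻¹ᵁ V).ι) 0) :
    preimageSec π N V (mapL _ ((Scheme.Modules.restrictFunctor (π ⁻¹ᵁ V).ι).map φ) 0 x) =
      ((Scheme.Modules.pushforward π).map φ).app V (preimageSec π M V x) := by
  refine (congrArg (Groth.CohTwo.res N _) (equivSections_mapL _ _ x)).trans ?_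
  exact (Groth.CohTwo.app_res φ _ _).symm

variable [IsNoetherianRing A] [IsLocallyNoetherian Z] [Z.IsSeparated] [CompactSpace X]
  [X.IsSeparated] [QuasiCompact π] [QuasiSeparated π]

/-- Finiteness of `H^q(Z, π_* M)` from finiteness of `H^q(X, M)`, finiteness of the relative
cohomology in lower degrees, and finiteness of coherent cohomology of `Z` in lower degrees. -/
theorem hFin_push_of_fibres (q : ℕ) (M : X.Modules) [M.IsQuasicoherent]
    (hM : HFin (π ≫ s) M q)
    (hrel : ∀ t, 1 ≤ t → t < q → ∀ V : Z.Opens, IsAffineOpen V →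
      HFin (overPreimage π V) (M.restrict (π ⁻¹ᵁ V).ι) t)
    (hlow : ∀ G : Z.Modules, Coh.IsCoh G → ∀ p < q, HFin s G p) :
    HFin s ((Scheme.Modules.pushforward π).obj M) q := by
  induction q generalizing M with
  | zero => exact Module.Finite.equiv (pushZero π s M).symm
  | succ q ih =>
    obtain ⟨E⟩ := nonempty_acycEmb π M
    haveI := E.mono
    haveI := E.qcoh
    let S := ShortComplex.mk E.ι (cokernel.π E.ι) (cokernel.condition _)
    have hS : S.ShortExact :=
      { exact := ShortComplex.exact_of_g_is_cokernel _ (cokernelIsCokernel E.ι)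
        mono_f := E.mono
        epi_g := inferInstanceAs (Epi (cokernel.π E.ι)) }
    let F := Scheme.Modules.pushforward π
    haveI : (cokernel E.ι).IsQuasicoherent := inferInstance
    haveI : (F.obj M).IsQuasicoherent := Groth.QCohMod.isQCoh_pushforward M π
    haveI : (F.obj E.I).IsQuasicoherent := Groth.QCohMod.isQCoh_pushforward E.I π
    haveI : (F.obj (cokernel E.ι)).IsQuasicoherent := Groth.QCohMod.isQCoh_pushforward _ π
    have hSF : (S.map F).Exact := hS.exact.map_of_mono_of_preservesKernel F hS.mono_f inferInstance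
    haveI : Mono (F.map E.ι) := inferInstance
    let m : cokernel (F.map E.ι) ⟶ F.obj (cokernel E.ι) := cokernel.desc _ (F.map S.g) (S.map F).zero
    haveI : Mono m := hSF.mono_cokernelDesc
    let S1 := ShortComplex.mk (F.map E.ι) (cokernel.π (F.map E.ι)) (cokernel.condition _)
    have hS1 : S1.ShortExact :=
      { exact := ShortComplex.exact_of_g_is_cokernel _ (cokernelIsCokernel (F.map E.ι))
        mono_f := inferInstanceAs (Mono (F.map E.ι))
        epi_g := inferInstanceAs (Epi (cokernel.π (F.map E.ι))) }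
    let S2 := ShortComplex.mk m (cokernel.π m) (cokernel.condition _)
    have hS2 : S2.ShortExact :=
      { exact := ShortComplex.exact_of_g_is_cokernel _ (cokernelIsCokernel m)
        mono_f := inferInstanceAs (Mono m)
        epi_g := inferInstanceAs (Epi (cokernel.π m)) }
    have hZ0 : Subsingleton (HA s (F.obj E.I) (q + 1)) := E.hZ q
    rcases q with _ | q
    · -- degree one
      let L : HA s (cokernel (F.map E.ι)) 0 →ₗ[A] HA (π ≫ s) M 1 :=
        (delta (f := π ≫ s) hS 0).comp
          ((pushZero π s (cokernel E.ι)).toLinearMap.comp (mapL s m 0))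
      have hδ : Function.Surjective (delta (f := s) hS1 0) := fun y =>
        ((exact_delta_mapL (f := s) hS1 0) y).1 (@Subsingleton.elim _ hZ0 _ _)
      have hker : LinearMap.ker L ≤ LinearMap.ker (delta (f := s) hS1 0) := by
        intro x hx
        obtain ⟨y, hy⟩ := (exact_mapL_delta (f := π ≫ s) hS 0 _).1 hx
        refine (exact_mapL_delta (f := s) hS1 0 _).2 ⟨(pushZero π s E.I).symm y, ?_⟩
        apply mapL_zero_injective (f := s) hS2
        apply (pushZero π s (cokernel E.ι)).injective
        rw [← mapL_comp, show S1.g ≫ S2.f = F.map S.g from cokernel.π_desc _ _ _,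
          pushZero_mapL, LinearEquiv.apply_symm_apply]
        exact hy
      haveI : IsNoetherian A (HA (π ≫ s) M 1) := isNoetherian_of_isNoetherianRing_of_finite A _
      haveI : Module.Finite A (HA s (cokernel (F.map E.ι)) 0 ⧸ LinearMap.ker L) :=
        Module.Finite.equiv L.quotKerEquivRange.symm
      refine Module.Finite.of_surjective ((LinearMap.ker L).liftQ (delta (f := s) hS1 0) hker)
        fun y => ?_
      obtain ⟨x, hx⟩ := hδ y
      exact ⟨Submodule.Quotient.mk x, hx⟩
    · -- higher degrees
      have hR : Coh.IsCoh (cokernel m) := by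
        haveI : (cokernel (F.map E.ι)).IsQuasicoherent := inferInstance
        refine (Groth.QCohMod.isCoh_iff _).2 ⟨inferInstance, fun V hV => ?_⟩
        haveI : IsNoetherianRing Γ(Z, V) := IsLocallyNoetherian.component_noetherian (X := Z) ⟨V, hV⟩
        let ρ := Scheme.Modules.restrictFunctor (π ⁻¹ᵁ V).ι
        haveI := (Scheme.Modules.restrictAdjunction (π ⁻¹ᵁ V).ι).left_adjoint_additive
        haveI := Groth.CohBase.preservesFiniteLimits_restrictFunctor (π ⁻¹ᵁ V).ι
        haveI : PreservesFiniteColimits ρ :=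
          haveI := (Scheme.Modules.restrictAdjunction (π ⁻¹ᵁ V).ι).leftAdjoint_preservesColimits
          ⟨fun _ _ _ => inferInstance⟩
        have hT : (S.map ρ).ShortExact := hS.map_of_exact ρ
        let f' := overPreimage π V
        let c : HA f' (S.map ρ).X₃ 0 →ₗ[Γ(Z, V)] Γ(cokernel m, V) :=
          (Groth.QCohMod.appₗ (cokernel.π m) V).comp (preimageSec π (cokernel E.ι) V)
        have hc : Function.Surjective c :=
          (Groth.QCohMod.app_surjective_of_epi (cokernel.π m) hV).comp
            (preimageSec_bijective π (cokernel E.ι) V).2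
        have hker : LinearMap.ker (delta (f := f') hT 0) ≤ LinearMap.ker c := by
          intro x hx
          obtain ⟨y, rfl⟩ := (exact_mapL_delta (f := f') hT 0 x).1 hx
          change (cokernel.π m).app V (preimageSec π (cokernel E.ι) V _) = 0
          refine (congrArg _ (preimageSec_mapL π (cokernel.π E.ι) V y)).trans ?_
          have h0 : F.map S.g ≫ cokernel.π m = 0 := by
            rw [show F.map S.g = cokernel.π (F.map E.ι) ≫ m from (cokernel.π_desc _ _ _).symm,
              Category.assoc, cokernel.condition, comp_zero]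
          exact congr(($h0).app V (preimageSec π E.I V y))
        haveI : Module.Finite Γ(Z, V) (HA f' (ρ.obj M) 1) := hrel 1 le_rfl (by omega) V hV
        haveI : Module.Finite Γ(Z, V) (HA f' (S.map ρ).X₁ (0 + 1)) := hrel 1 le_rfl (by omega) V hV
        haveI : IsNoetherian Γ(Z, V) (HA f' (S.map ρ).X₁ (0 + 1)) :=
          isNoetherian_of_isNoetherianRing_of_finite _ _
        haveI : Module.Finite Γ(Z, V) (_ ⧸ LinearMap.ker (delta (f := f') hT 0)) :=
          Module.Finite.equiv (delta (f := f') hT 0).quotKerEquivRange.symm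
        refine Module.Finite.of_surjective ((LinearMap.ker _).liftQ c hker) fun y => ?_
        obtain ⟨x, hx⟩ := hc y
        exact ⟨Submodule.Quotient.mk x, hx⟩
      have hQ : HFin s (F.obj (cokernel E.ι)) (q + 1) := by
        refine ih (cokernel E.ι) (hFin_third (f := π ≫ s) hS (hFin_of_subsingleton (E.hX q)) hM)
          (fun t ht htq V hV => ?_) (fun G hG p hp => hlow G hG p (by omega))
        obtain ⟨t, rfl⟩ : ∃ t', t = t' + 1 := ⟨t - 1, by omega⟩
        let ρ := Scheme.Modules.restrictFunctor (π ⁻¹ᵁ V).ι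
        haveI := (Scheme.Modules.restrictAdjunction (π ⁻¹ᵁ V).ι).left_adjoint_additive
        haveI := Groth.CohBase.preservesFiniteLimits_restrictFunctor (π ⁻¹ᵁ V).ι
        haveI : PreservesFiniteColimits ρ :=
          haveI := (Scheme.Modules.restrictAdjunction (π ⁻¹ᵁ V).ι).leftAdjoint_preservesColimits
          ⟨fun _ _ _ => inferInstance⟩
        haveI : IsNoetherianRing Γ(Z, V) := IsLocallyNoetherian.component_noetherian (X := Z) ⟨V, hV⟩
        exact hFin_third (f := overPreimage π V) (hS.map_of_exact ρ)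
          (hFin_of_subsingleton (E.hV V hV t)) (hrel (t + 1 + 1) (by omega) (by omega) V hV)
      have hB : HFin s (cokernel (F.map E.ι)) (q + 1) :=
        hFin_first (f := s) hS2 (hlow _ hR q (by omega)) hQ
      exact hFin_first (f := s) hS1 hB (hFin_of_subsingleton (E.hZ (q + 1)))

end Groth.CohFin
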