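import Groth.Agent.CohFin.Acyclic
import Groth.Agent.CohFin.Leray
import Groth.Agent.CohTwo.TensorBelow
import Groth.Agent.CohBase.AcyclicShift
import Groth.Agent.S0025

/-!
Higher direct images of quasi-coherent modules: quasi-coherence, coherence from finiteness.
-/

universe u

open CategoryTheory CategoryTheory.Limits AlgebraicGeometry TopologicalSpace Opposite

namespace Groth.CohFin

open Groth.CohBase

variable {X Z : Scheme.{u}}

/-- Injective modules have surjective restriction maps. -/
lemma res_surjective_of_injective (I : X.Modules) [Injective I] {U V : X.Opens} (h : U ≤ V) :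
    Function.Surjective (Groth.CohTwo.res I h) := by
  intro s
  obtain ⟨φ, hφ⟩ := Groth.CohTwo.exists_sectionHom I s
  haveI : Mono (Groth.CohTwo.belowIncl (Coh.structureModule X) h) := by
    haveI : Mono (Groth.CohTwo.belowι (Coh.structureModule X) U) :=
      (Groth.CohTwo.mono_iff_app_injective _).2 fun W => Groth.CohTwo.belowι_app_injective W
    exact mono_of_mono_fac (Groth.CohTwo.belowIncl_ι h)
  let φ' := Injective.factorThru φ (Groth.CohTwo.belowIncl (Coh.structureModule X) h)
  have e : Groth.CohTwo.belowIncl (Coh.structureModule X) h ≫ φ' = φ :=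
    Injective.comp_factorThru _ _
  refine ⟨φ'.app V (Groth.CohTwo.oneSec le_rfl), ?_⟩
  rw [← Groth.CohTwo.app_res, ← hφ, ← e, Scheme.Modules.Hom.comp_app, ConcreteCategory.comp_apply]
  congr 1
  refine Groth.CohTwo.coefO_injective ?_
  rw [Groth.CohTwo.coefO_res, Groth.CohTwo.coefO_incl, Groth.CohTwo.coefO_oneSec,
    Groth.CohTwo.coefO_oneSec, map_one]

lemma hVanish_of_injective_module (I : X.Modules) [Injective I] (U : X.Opens) (n : ℕ) :
    HVanish (X := X.toTopCat) (abSheaf I) (n + 1) U :=
  haveI : TopCat.Sheaf.IsFlasque (abSheaf I) :=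
    (Groth.SiteCohomology.isFlasque_iff_surjective (abSheaf I)).2
      fun _ _ i => res_surjective_of_injective I i.le
  Groth.SiteCohomology.subsingleton_HU_succ_of_flasque (abSheaf I) U n

/-- The short exact sequence of underlying abelian sheaves of an injective embedding. -/
lemma pushAcyclic_quotient_module (π : X ⟶ Z) {S : ShortComplex X.Modules} (hS : S.ShortExact)
    [Injective S.X₂] (h : PushAcyclic π.base (abSheaf S.X₁)) : PushAcyclic π.base (abSheaf S.X₃) :=
  fun V y hy => by
    obtain ⟨V', hle, hy', hV'⟩ := h V y hy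
    exact ⟨V', hle, hy', fun q => hVanish_third (S := S.map (toAbF X)) (shortExact_toAb hS)
      (hV' (q + 1)) (hVanish_of_injective_module S.X₂ _ q)⟩

/-- A module acyclic over a basis of the target is acyclic for the direct image of modules. -/
theorem rightAcyclic_of_pushAcyclic (π : X ⟶ Z) (I : X.Modules)
    (h : PushAcyclic π.base (abSheaf I)) : RightAcyclic (Scheme.Modules.pushforward π) I := by
  intro j
  induction j generalizing I with
  | zero =>
    obtain ⟨e⟩ := nonempty_rightDerived_one_iso_of_injective (F := Scheme.Modules.pushforward π)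
      (injSeq_shortExact I)
    refine IsZero.of_iso ?_ e
    have hepi : Epi ((pushSheaf π.base).map ((toAbF X).map (injSeq I).g)) :=
      PushAcyclic.epi_map (S := (injSeq I).map (toAbF X)) (shortExact_toAb (injSeq_shortExact I)) h
    haveI : (toAbF Z).Faithful :=
      inferInstanceAs (SheafOfModules.toSheaf.{u} Z.ringCatSheaf).Faithful
    haveI : Epi ((Scheme.Modules.pushforward π).map (injSeq I).g) :=
      (toAbF Z).epi_of_epi_map hepi
    exact isZero_cokernel_of_epi _
  | succ j ih =>
    exact (ih _ (pushAcyclic_quotient_module π (injSeq_shortExact I) h)).of_iso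
      (rightDerivedShift (injSeq_shortExact I) (Scheme.Modules.pushforward π) j)

lemma AcycEmb.rightAcyclic {π : X ⟶ Z} {M : X.Modules} (E : AcycEmb π M) :
    RightAcyclic (Scheme.Modules.pushforward π) E.I := by
  refine rightAcyclic_of_pushAcyclic π E.I fun V y hy => ?_
  obtain ⟨V', hV', hyV', hle⟩ := Opens.isBasis_iff_nbhd.mp Z.isBasis_affineOpens hy
  refine ⟨V', hle, hyV', fun q => ?_⟩
  obtain ⟨e⟩ := nonempty_equiv_HHon E.I (π ⁻¹ᵁ V') (q + 1)
  exact @Equiv.subsingleton _ _ e.symm.toEquiv (E.hV V' hV' q)

section

variable [CompactSpace X] [X.IsSeparated] [Z.IsSeparated] (π : X ⟶ Z) [QuasiCompact π]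
  [QuasiSeparated π]

/-- Higher direct images are quasi-coherent. -/
theorem isQCoh_rightDerived (q : ℕ) : ∀ (M : X.Modules), M.IsQuasicoherent →
    (((Scheme.Modules.pushforward π).rightDerived q).obj M).IsQuasicoherent := by
  induction q with
  | zero =>
    intro M hM
    exact (Groth.QCohMod.isQCoh_iff_of_iso
      ((Scheme.Modules.pushforward π).rightDerivedZeroIsoSelf.app M)).mpr
      (Groth.QCohMod.isQCoh_pushforward M π)
  | succ q ih =>
    intro M hM
    obtain ⟨E⟩ := nonempty_acycEmb π M
    haveI := E.mono
    haveI := E.qcoh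
    have hS := cokerSeq_shortExact' E.ι
    haveI hQ : (cokernel E.ι).IsQuasicoherent := inferInstance
    rcases q with _ | q
    · obtain ⟨e⟩ := nonempty_rightDerived_one_iso (F := Scheme.Modules.pushforward π) hS
        E.rightAcyclic
      haveI : ((Scheme.Modules.pushforward π).obj E.I).IsQuasicoherent :=
        Groth.QCohMod.isQCoh_pushforward E.I π
      haveI : ((Scheme.Modules.pushforward π).obj (cokernel E.ι)).IsQuasicoherent :=
        Groth.QCohMod.isQCoh_pushforward _ π
      refine (Groth.QCohMod.isQCoh_iff_of_iso e).mpr ?_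
      dsimp
      infer_instance
    · obtain ⟨e⟩ := nonempty_rightDerived_shift (Scheme.Modules.pushforward π) q _ hS E.rightAcyclic
      exact (Groth.QCohMod.isQCoh_iff_of_iso e).mpr (ih _ hQ)

variable [IsLocallyNoetherian Z]

/-- Higher direct images are coherent if cohomology over affine opens of the base is finite. -/
theorem isCoh_rightDerived (q : ℕ) : ∀ (M : X.Modules), M.IsQuasicoherent →
    (∀ V : Z.Opens, IsAffineOpen V → HFin (overPreimage π V) (M.restrict (π ⁻¹ᵁ V).ι) q) →
    Coh.IsCoh (((Scheme.Modules.pushforward π).rightDerived q).obj M) := by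
  induction q with
  | zero =>
    intro M hM hfin
    refine Groth.QCohMod.isCoh_of_iso
      ((Scheme.Modules.pushforward π).rightDerivedZeroIsoSelf.app M).symm ?_
    haveI := Groth.QCohMod.isQCoh_pushforward M π
    refine (Groth.QCohMod.isCoh_iff _).2 ⟨Groth.QCohMod.isQCoh_pushforward M π, fun V hV => ?_⟩
    haveI := hfin V hV
    exact Module.Finite.equiv (LinearEquiv.ofBijective _ (preimageSec_bijective π M V))
  | succ q ih =>
    intro M hM hfin
    obtain ⟨E⟩ := nonempty_acycEmb π M
    haveI := E.mono
    haveI := E.qcoh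
    let S := ShortComplex.mk E.ι (cokernel.π E.ι) (cokernel.condition _)
    have hS : S.ShortExact := cokerSeq_shortExact' E.ι
    haveI hQ : (cokernel E.ι).IsQuasicoherent := inferInstance
    rcases q with _ | q
    · obtain ⟨e⟩ := nonempty_rightDerived_one_iso (F := Scheme.Modules.pushforward π) hS
        E.rightAcyclic
      refine Groth.QCohMod.isCoh_of_iso e.symm ?_
      let F := Scheme.Modules.pushforward π
      haveI : (F.obj E.I).IsQuasicoherent := Groth.QCohMod.isQCoh_pushforward E.I π
      haveI : (F.obj (cokernel E.ι)).IsQuasicoherent := Groth.QCohMod.isQCoh_pushforward _ π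
      refine (Groth.QCohMod.isCoh_iff _).2
        ⟨(inferInstance : (cokernel (F.map (cokernel.π E.ι))).IsQuasicoherent), fun V hV => ?_⟩
      haveI : IsNoetherianRing Γ(Z, V) :=
        IsLocallyNoetherian.component_noetherian (X := Z) ⟨V, hV⟩
      let ρ := Scheme.Modules.restrictFunctor (π ⁻¹ᵁ V).ι
      haveI := (Scheme.Modules.restrictAdjunction (π ⁻¹ᵁ V).ι).left_adjoint_additive
      haveI := Groth.CohBase.preservesFiniteLimits_restrictFunctor (π ⁻¹ᵁ V).ι
      haveI : PreservesFiniteColimits ρ :=
        haveI := (Scheme.Modules.restrictAdjunction (π ⁻¹ᵁ V).ι).leftAdjoint_preservesColimits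
        ⟨fun _ _ _ => inferInstance⟩
      have hT : (S.map ρ).ShortExact := hS.map_of_exact ρ
      let f' := overPreimage π V
      let m := F.map (cokernel.π E.ι)
      let c : HA f' (S.map ρ).X₃ 0 →ₗ[Γ(Z, V)] Γ(cokernel m, V) :=
        (Groth.QCohMod.appₗ (cokernel.π m) V).comp (preimageSec π (cokernel E.ι) V)
      have hc : Function.Surjective c :=
        (Groth.QCohMod.app_surjective_of_epi (cokernel.π m) hV).comp
          (preimageSec_bijective π (cokernel E.ι) V).2
      have hker : LinearMap.ker (delta (f := f') hT 0) ≤ LinearMap.ker c := by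
        intro x hx
        obtain ⟨y, rfl⟩ := (exact_mapL_delta (f := f') hT 0 x).1 hx
        change (cokernel.π m).app V (preimageSec π (cokernel E.ι) V _) = 0
        refine (congrArg _ (preimageSec_mapL π (cokernel.π E.ι) V y)).trans ?_
        exact congr(($(cokernel.condition m)).app V (preimageSec π E.I V y))
      haveI : Module.Finite Γ(Z, V) (HA f' (S.map ρ).X₁ (0 + 1)) := hfin V hV
      haveI : IsNoetherian Γ(Z, V) (HA f' (S.map ρ).X₁ (0 + 1)) :=
        isNoetherian_of_isNoetherianRing_of_finite _ _
      haveI : Module.Finite Γ(Z, V) (_ ⧸ LinearMap.ker (delta (f := f') hT 0)) :=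
        Module.Finite.equiv (delta (f := f') hT 0).quotKerEquivRange.symm
      refine Module.Finite.of_surjective ((LinearMap.ker _).liftQ c hker) fun y => ?_
      obtain ⟨x, hx⟩ := hc y
      exact ⟨Submodule.Quotient.mk x, hx⟩
    · obtain ⟨e⟩ := nonempty_rightDerived_shift (Scheme.Modules.pushforward π) q _ hS E.rightAcyclic
      refine Groth.QCohMod.isCoh_of_iso e.symm (ih _ hQ fun V hV => ?_)
      let ρ := Scheme.Modules.restrictFunctor (π ⁻¹ᵁ V).ι
      haveI := (Scheme.Modules.restrictAdjunction (π ⁻¹ᵁ V).ι).left_adjoint_additive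
      haveI := Groth.CohBase.preservesFiniteLimits_restrictFunctor (π ⁻¹ᵁ V).ι
      haveI : PreservesFiniteColimits ρ :=
        haveI := (Scheme.Modules.restrictAdjunction (π ⁻¹ᵁ V).ι).leftAdjoint_preservesColimits
        ⟨fun _ _ _ => inferInstance⟩
      haveI : IsNoetherianRing Γ(Z, V) :=
        IsLocallyNoetherian.component_noetherian (X := Z) ⟨V, hV⟩
      exact hFin_third (f := overPreimage π V) (hS.map_of_exact ρ)
        (hFin_of_subsingleton (E.hV V hV q)) (hfin V hV)

end

end Groth.CohFin
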