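import Groth.Agent.CohFin.Rpush
import Groth.Agent.CohFin.Proper
import Groth.Agent.LocCohZBase.DerivedComp
import Groth.Agent.SiteCohomology.HigherDirectImage

/-!
Higher direct images are local on the base; coherence for proper morphisms.
-/

universe u

open CategoryTheory CategoryTheory.Limits AlgebraicGeometry TopologicalSpace Opposite

namespace Groth.CohFin

open Groth.CohBase

variable {X Z : Scheme.{u}} (f : X ⟶ Z) (U : Z.Opens)

/-- Comparison of the restriction of a direct image with the direct image of the restriction. -/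
noncomputable def baseLocalNat :
    Scheme.Modules.pushforward f ⋙ Scheme.Modules.restrictFunctor U.ι ⟶
      Scheme.Modules.restrictFunctor (f ⁻¹ᵁ U).ι ⋙ Scheme.Modules.pushforward (f ∣_ U) :=
  let τ : Scheme.Modules.pushforward (f ⁻¹ᵁ U).ι ⋙ Scheme.Modules.pushforward f ≅
      Scheme.Modules.pushforward (f ∣_ U) ⋙ Scheme.Modules.pushforward U.ι :=
    Scheme.Modules.pushforwardComp (f ⁻¹ᵁ U).ι f ≪≫
      Scheme.Modules.pushforwardCongr (morphismRestrict_ι f U).symm ≪≫
      (Scheme.Modules.pushforwardComp (f ∣_ U) U.ι).symm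
  let P := Scheme.Modules.restrictFunctor (f ⁻¹ᵁ U).ι
  let β : Scheme.Modules.pushforward f ⟶
      (P ⋙ Scheme.Modules.pushforward (f ∣_ U)) ⋙ Scheme.Modules.pushforward U.ι :=
    (Functor.leftUnitor _).inv ≫
      Functor.whiskerRight (Scheme.Modules.restrictAdjunction (f ⁻¹ᵁ U).ι).unit
        (Scheme.Modules.pushforward f) ≫
      (Functor.associator _ _ _).hom ≫ Functor.whiskerLeft P τ.hom ≫ (Functor.associator _ _ _).inv
  Functor.whiskerRight β (Scheme.Modules.restrictFunctor U.ι) ≫ (Functor.associator _ _ _).hom ≫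
    Functor.whiskerLeft (P ⋙ Scheme.Modules.pushforward (f ∣_ U))
      (Scheme.Modules.restrictAdjunction U.ι).counit ≫ (Functor.rightUnitor _).hom

lemma res_bijective (M : X.Modules) {W' W : X.Opens} (h : W' ≤ W) (h' : W ≤ W') :
    Function.Bijective (Groth.CohTwo.res M h) := by
  obtain rfl := le_antisymm h h'
  have : (Groth.CohTwo.res M h : Γ(M, W') → Γ(M, W')) = id := funext (Groth.CohTwo.res_rfl M h)
  rw [this]
  exact Function.bijective_id

lemma isIso_baseLocalNat : IsIso (baseLocalNat f U) := by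
  haveI : ∀ M, IsIso ((baseLocalNat f U).app M) := fun M => by
    haveI : IsIso ((Scheme.Modules.restrictFunctor U.ι).map ((Scheme.Modules.pushforward f).map
        ((Scheme.Modules.restrictAdjunction (f ⁻¹ᵁ U).ι).unit.app M))) :=
      Groth.CohTwo.isIso_of_app_bijective _ fun W => by
        have h1 : f ⁻¹ᵁ (U.ι ''ᵁ W) ≤
            (f ⁻¹ᵁ U).ι ''ᵁ ((f ⁻¹ᵁ U).ι ⁻¹ᵁ (f ⁻¹ᵁ (U.ι ''ᵁ W))) := by
          rw [Scheme.Hom.image_preimage_eq_opensRange_inf, Scheme.Opens.opensRange_ι]
          exact le_inf (f.preimage_mono (U.ι_image_le W)) le_rfl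
        exact res_bijective M ((f ⁻¹ᵁ U).ι.image_preimage_le _) h1
    simp only [baseLocalNat, NatTrans.comp_app, Functor.whiskerRight_app, Functor.whiskerLeft_app,
      Functor.leftUnitor_inv_app, Functor.rightUnitor_hom_app, Functor.associator_hom_app,
      Functor.associator_inv_app, Category.id_comp, Category.comp_id, Iso.trans_hom, Iso.symm_hom,
      Functor.map_comp]
    infer_instance
  exact NatIso.isIso_of_isIso_app _

/-- `R^q f_*` restricted to an open of the base. -/
theorem nonempty_rightDerived_restrict (q : ℕ) (M : X.Modules) :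
    Nonempty ((((Scheme.Modules.pushforward f).rightDerived q).obj M).restrict U.ι ≅
      ((Scheme.Modules.pushforward (f ∣_ U)).rightDerived q).obj (M.restrict (f ⁻¹ᵁ U).ι)) := by
  let A := Scheme.Modules.restrictFunctor (f ⁻¹ᵁ U).ι
  haveI := (Scheme.Modules.restrictAdjunction (f ⁻¹ᵁ U).ι).left_adjoint_additive
  haveI := (Scheme.Modules.restrictAdjunction U.ι).left_adjoint_additive
  haveI := Groth.CohBase.preservesFiniteLimits_restrictFunctor (f ⁻¹ᵁ U).ι
  haveI := Groth.CohBase.preservesFiniteLimits_restrictFunctor U.ι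
  haveI : PreservesFiniteColimits A :=
    haveI := (Scheme.Modules.restrictAdjunction (f ⁻¹ᵁ U).ι).leftAdjoint_preservesColimits
    ⟨fun _ _ _ => inferInstance⟩
  haveI : PreservesFiniteColimits (Scheme.Modules.restrictFunctor U.ι) :=
    haveI := (Scheme.Modules.restrictAdjunction U.ι).leftAdjoint_preservesColimits
    ⟨fun _ _ _ => inferInstance⟩
  haveI : A.PreservesInjectiveObjects := ⟨fun {I} hI => Groth.CohTwo.injective_restrict _ I⟩
  haveI := isIso_baseLocalNat f U
  obtain ⟨e⟩ := Groth.SiteCohomology.nonempty_rightDerived_comp_exact (Scheme.Modules.pushforward f)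
    (Scheme.Modules.restrictFunctor U.ι) (A ⋙ Scheme.Modules.pushforward (f ∣_ U))
    (asIso (baseLocalNat f U)).symm M q
  exact ⟨e.symm ≪≫
    (Groth.LocCohZBase.DerivedComp.rightDerivedCompIso A (Scheme.Modules.pushforward (f ∣_ U)) q).app M⟩

variable {f}

/-- Coherence is local. -/
lemma isCoh_of_restrict_cover {M : Z.Modules}
    (h : ∀ z, ∃ V : Z.Opens, IsAffineOpen V ∧ z ∈ V ∧ Coh.IsCoh (M.restrict V.ι)) :
    Coh.IsCoh M := by
  haveI : M.IsQuasicoherent := Groth.QCohMod.isQCoh_of_forall_exists M fun z => by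
    obtain ⟨V, -, hz, hc⟩ := h z
    exact ⟨V, hz, hc.1⟩
  refine ⟨inferInstance, Groth.QCohMod.isFT_of_affine_cover M fun z => ?_⟩
  obtain ⟨V, hV, hz, hc⟩ := h z
  refine ⟨V, hV, hz, ?_⟩
  haveI := hc.1
  haveI : IsAffine ↑V := hV
  have hl : V.ι ''ᵁ ⊤ = V := by simp
  haveI := Groth.QCohMod.finite_sections (M.restrict V.ι) hc.2 (isAffineOpen_top _)
  obtain ⟨G, hG⟩ := (Module.Finite.fg_top :
    (⊤ : Submodule Γ(↑V, ⊤) Γ(M.restrict V.ι, ⊤)).FG)
  classical
  let toV : Γ(M.restrict V.ι, ⊤) →+ Γ(M, V) := Groth.CohTwo.res M hl.ge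
  refine ⟨⟨G.image toV, eq_top_iff.2 fun m _ => ?_⟩⟩
  let S := Submodule.span Γ(Z, V) ((G.image toV : Finset Γ(M, V)) : Set Γ(M, V))
  have key : ∀ v : Γ(M.restrict V.ι, ⊤), toV v ∈ S := fun v => by
    refine Submodule.span_induction (p := fun w _ => toV w ∈ S)
      (fun w hw => Submodule.subset_span (Finset.mem_coe.2 (Finset.mem_image_of_mem _ hw)))
      (by rw [map_zero]; exact S.zero_mem)
      (fun a b _ _ ha hb => by rw [map_add]; exact S.add_mem ha hb) (fun c w _ hw => ?_)
      (hG.ge (trivial : v ∈ ⊤))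
    have e : toV (c • w) = Groth.CohTwo.resR Z hl.ge ((V.ι.appIso ⊤).inv c) • toV w :=
      Groth.CohTwo.res_smul M hl.ge _ _
    rw [e]
    exact S.smul_mem _ hw
  have hm := key (Groth.CohTwo.res M hl.le m)
  have e : toV (Groth.CohTwo.res M hl.le m) = m :=
    (Groth.CohTwo.res_res M _ _ _).trans (Groth.CohTwo.res_rfl M _ _)
  rwa [e] at hm

/-- Higher direct images of coherent modules under proper morphisms are coherent, given finiteness
on projective spaces. -/
theorem isCoh_rightDerived_of_proper (hP : ProjFinite.{u}) (f : X ⟶ Z) [IsProper f]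
    [IsLocallyNoetherian Z] (q : ℕ) (M : X.Modules) (hM : Coh.IsCoh M) :
    Coh.IsCoh (((Scheme.Modules.pushforward f).rightDerived q).obj M) := by
  haveI : IsLocallyNoetherian X := LocallyOfFiniteType.isLocallyNoetherian f
  refine isCoh_of_restrict_cover fun z => ?_
  obtain ⟨V, hV, hz⟩ := Groth.QCohMod.exists_affine_mem z
  refine ⟨V, hV, hz, ?_⟩
  obtain ⟨e⟩ := nonempty_rightDerived_restrict f V q M
  refine Groth.QCohMod.isCoh_of_iso e.symm ?_
  haveI : IsAffine ↑V := hV
  haveI : IsProper (f ∣_ V) := IsZariskiLocalAtTarget.restrict ‹IsProper f› V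
  haveI : CompactSpace ↑(f ⁻¹ᵁ V) := QuasiCompact.compactSpace_of_compactSpace (f ∣_ V)
  haveI : (↑(f ⁻¹ᵁ V) : Scheme.{u}).IsSeparated := by
    rw [Scheme.isSeparated_iff]
    have h : terminal.from (↑(f ⁻¹ᵁ V) : Scheme.{u}) = (f ∣_ V) ≫ terminal.from (↑V : Scheme.{u}) :=
      Subsingleton.elim _ _
    rw [h]
    infer_instance
  haveI := (isCoh_restrict hM (f ⁻¹ᵁ V)).1
  refine isCoh_rightDerived (f ∣_ V) q _ (isCoh_restrict hM _).1 fun W hW => ?_
  haveI : IsNoetherianRing Γ(↑V, W) := IsLocallyNoetherian.component_noetherian (X := ↑V) ⟨W, hW⟩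
  haveI : IsProper (overPreimage (f ∣_ V) W) := by
    have he : overPreimage (f ∣_ V) W = ((f ∣_ V) ∣_ W) ≫ hW.isoSpec.hom :=
      Scheme.Opens.toSpecΓ_naturality (f ∣_ V) W
    rw [he]
    haveI : IsProper ((f ∣_ V) ∣_ W) := IsZariskiLocalAtTarget.restrict ‹IsProper (f ∣_ V)› W
    infer_instance
  exact hFin_of_proper hP (A := Γ(↑V, W)) q _ (overPreimage (f ∣_ V) W) _
    (isCoh_restrict (isCoh_restrict hM _) _)

end Groth.CohFin
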