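import Groth.Agent.CohBase.DerivedEpi
import Mathlib.CategoryTheory.Abelian.DiagramLemmas.Four
import Mathlib.CategoryTheory.Preadditive.Injective.Basic

/-!
Dimension shifting for right derived functors along an acyclic object.
-/

universe v u v' u'

open CategoryTheory CategoryTheory.Limits

namespace Groth.CohFin

open Groth.CohBase

variable {C : Type u} [Category.{v} C] [Abelian C] [EnoughInjectives C]
  {D : Type u'} [Category.{v'} D] [Abelian D]
  (F : C ⥤ D) [F.Additive] [PreservesFiniteLimits F]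

/-- An object killed by the higher derived functors. -/
def RightAcyclic (A : C) : Prop := ∀ j : ℕ, IsZero ((F.rightDerived (j + 1)).obj A)

lemma rightAcyclic_of_injective (A : C) [Injective A] : RightAcyclic F A :=
  fun j => F.isZero_rightDerived_obj_injective_succ j A

lemma rightDerived_map_add (n : ℕ) {X Y : C} (f g : X ⟶ Y) :
    (F.rightDerived n).map (f + g) = (F.rightDerived n).map f + (F.rightDerived n).map g := by
  let P := injectiveResolution X
  let Q := injectiveResolution Y
  have hf : P.ι ≫ InjectiveResolution.desc f Q P = (CochainComplex.single₀ C).map f ≫ Q.ι :=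
    InjectiveResolution.desc_commutes f Q P
  have hg : P.ι ≫ InjectiveResolution.desc g Q P = (CochainComplex.single₀ C).map g ≫ Q.ι :=
    InjectiveResolution.desc_commutes g Q P
  have hfg : P.ι ≫ (InjectiveResolution.desc f Q P + InjectiveResolution.desc g Q P) =
      (CochainComplex.single₀ C).map (f + g) ≫ Q.ι := by
    rw [Preadditive.comp_add, hf, hg, Functor.map_add, Preadditive.add_comp]
  rw [F.rightDerived_map_eq n (f + g) _ hfg, F.rightDerived_map_eq n f _ hf,
    F.rightDerived_map_eq n g _ hg, Functor.map_add, Preadditive.add_comp, Preadditive.comp_add]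

/-- An extension of acyclic objects with a splitting is acyclic. -/
lemma rightAcyclic_biprod {A B : C} (hA : RightAcyclic F A) (hB : RightAcyclic F B) :
    RightAcyclic F (A ⊞ B) := fun j => by
  refine (IsZero.iff_id_eq_zero _).2 ?_
  rw [← CategoryTheory.Functor.map_id, ← biprod.total, rightDerived_map_add, Functor.map_comp,
    Functor.map_comp, (hA j).eq_zero_of_tgt ((F.rightDerived (j + 1)).map biprod.fst),
    (hB j).eq_zero_of_tgt ((F.rightDerived (j + 1)).map biprod.snd), zero_comp, zero_comp, add_zero]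

/-- The short exact sequence of an embedding into an injective object. -/
noncomputable abbrev injSeq (A : C) : ShortComplex C :=
  ShortComplex.mk (Injective.ι A) (cokernel.π _) (cokernel.condition _)

lemma cokerSeq_shortExact' {M N : C} (φ : M ⟶ N) [Mono φ] :
    (ShortComplex.mk φ (cokernel.π φ) (cokernel.condition φ)).ShortExact :=
  { exact := ShortComplex.exact_of_g_is_cokernel _ (cokernelIsCokernel φ)
    mono_f := ‹_›
    epi_g := inferInstanceAs (Epi (cokernel.π φ)) }

lemma injSeq_shortExact (A : C) : (injSeq A).ShortExact := cokerSeq_shortExact' (Injective.ι A)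

instance injective_injSeq_X₂ (A : C) : Injective (injSeq A).X₂ :=
  inferInstanceAs (Injective (Injective.under A))

/-- The composite `S.f ≫ ι` into an injective hull, as a short exact sequence. -/
noncomputable abbrev hullSeq (S : ShortComplex C) : ShortComplex C :=
  ShortComplex.mk (S.f ≫ Injective.ι S.X₂) (cokernel.π (S.f ≫ Injective.ι S.X₂))
    (cokernel.condition _)

instance injective_hullSeq_X₂ (S : ShortComplex C) : Injective (hullSeq S).X₂ :=
  inferInstanceAs (Injective (Injective.under S.X₂))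

lemma hullSeq_shortExact {S : ShortComplex C} (hS : S.ShortExact) : (hullSeq S).ShortExact :=
  haveI := hS.mono_f
  cokerSeq_shortExact' _

/-- The quotient of `S` maps to the quotient of its hull sequence, with quotient that of the
injective presentation of the middle term. -/
lemma exists_ladder {S : ShortComplex C} (hS : S.ShortExact) :
    ∃ (ψ : S.X₃ ⟶ (hullSeq S).X₃) (t : (hullSeq S).X₃ ⟶ (injSeq S.X₂).X₃) (w : ψ ≫ t = 0),
      S.g ≫ ψ = Injective.ι S.X₂ ≫ (hullSeq S).g ∧ (hullSeq S).g ≫ t = (injSeq S.X₂).g ∧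
        (ShortComplex.mk ψ t w).ShortExact := by
  haveI := hS.mono_f
  haveI := hS.epi_g
  haveI : Epi (injSeq S.X₂).g := inferInstanceAs (Epi (cokernel.π _))
  haveI : Epi (hullSeq S).g := inferInstanceAs (Epi (cokernel.π _))
  obtain ⟨ψ, hψ⟩ : ∃ ψ, S.g ≫ ψ = Injective.ι S.X₂ ≫ (hullSeq S).g :=
    ⟨_, hS.gIsCokernel.fac (CokernelCofork.ofπ (Injective.ι S.X₂ ≫ (hullSeq S).g)
      (by rw [← Category.assoc]; exact (hullSeq S).zero)) WalkingParallelPair.one⟩
  obtain ⟨t, ht⟩ : ∃ t, (hullSeq S).g ≫ t = (injSeq S.X₂).g :=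
    ⟨cokernel.desc _ (injSeq S.X₂).g (by
      rw [Category.assoc]; exact (congrArg (S.f ≫ ·) (injSeq S.X₂).zero).trans comp_zero),
      cokernel.π_desc _ _ _⟩
  have w : ψ ≫ t = 0 := by
    rw [← cancel_epi S.g, ← Category.assoc, hψ, Category.assoc, ht, comp_zero]
    exact (injSeq S.X₂).zero
  refine ⟨ψ, t, w, hψ, ht, { exact := ?_, mono_f := ?_, epi_g := epi_of_epi_fac ht }⟩
  · rw [ShortComplex.exact_iff_exact_up_to_refinements]
    intro P x hx
    obtain ⟨P', π, hπ, j, hj⟩ := surjective_up_to_refinements_of_epi (hullSeq S).g x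
    obtain ⟨P'', π', hπ', i, hi⟩ := (injSeq_shortExact S.X₂).exact.exact_up_to_refinements j (by
      rw [← ht, ← Category.assoc, ← hj, Category.assoc]
      exact (congrArg (π ≫ ·) hx).trans comp_zero)
    refine ⟨P'', π' ≫ π, inferInstance, i ≫ S.g, ?_⟩
    change (π' ≫ π) ≫ x = (i ≫ S.g) ≫ ψ
    rw [Category.assoc, Category.assoc, hψ, hj, ← Category.assoc, hi]
    exact Category.assoc _ _ _
  · change Mono ψ
    rw [Preadditive.mono_iff_cancel_zero]
    intro P x hx
    obtain ⟨P', π, hπ, y, hy⟩ := surjective_up_to_refinements_of_epi S.g x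
    obtain ⟨P'', π', hπ', m, hm⟩ := (hullSeq_shortExact hS).exact.exact_up_to_refinements
      (y ≫ Injective.ι S.X₂) (by
        rw [Category.assoc, ← hψ, ← Category.assoc, ← hy, Category.assoc, hx, comp_zero])
    have hy' : π' ≫ y = m ≫ S.f := by
      rw [← cancel_mono (Injective.ι S.X₂), Category.assoc, Category.assoc]
      exact hm
    rw [← cancel_epi π, ← cancel_epi π', comp_zero, comp_zero, hy, ← Category.assoc, hy',
      Category.assoc, S.zero, comp_zero]

section

variable {F} {S : ShortComplex C} (hS : S.ShortExact)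

include hS

/-- `R¹F` as a cokernel, for an injective middle term. -/
lemma nonempty_rightDerived_one_iso_of_injective [Injective S.X₂] :
    Nonempty ((F.rightDerived 1).obj S.X₁ ≅ cokernel (F.map S.g)) := by
  let R := injectiveResolution S.X₃
  let T := ((F.mapHomologicalComplex _).obj (spliceComplex R)).sc' 0 1 2
  have hwi : F.map (resι R) ≫ T.g = 0 := map_resι_d F R
  let hi : IsLimit (KernelFork.ofι (f := T.g) (F.map (resι R)) hwi) :=
    KernelFork.mapIsLimit _ R.isLimitKernelFork F
  have hf' : hi.lift (KernelFork.ofι T.f T.zero) = F.map S.g := Fork.IsLimit.hom_ext hi (by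
    refine (hi.fac _ WalkingParallelPair.zero).trans ?_
    exact F.map_comp S.g (resι R))
  have hwπ : hi.lift (KernelFork.ofι T.f T.zero) ≫ cokernel.π (F.map S.g) = 0 :=
    (congrArg (· ≫ cokernel.π (F.map S.g)) hf').trans (cokernel.condition _)
  let hL : T.LeftHomologyData :=
    { K := F.obj S.X₃
      H := cokernel (F.map S.g)
      i := F.map (resι R)
      π := cokernel.π (F.map S.g)
      wi := hwi
      hi := hi
      wπ := hwπ
      hπ := CokernelCofork.IsColimit.ofπ' _ _ fun k hk =>
        ⟨cokernel.desc _ k ((congrArg (· ≫ k) hf').symm.trans hk), cokernel.π_desc _ _ _⟩ }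
  exact ⟨(splice hS R).isoRightDerivedObj F 1 ≪≫
    ((F.mapHomologicalComplex _).obj (spliceComplex R)).homologyIsoSc' 0 1 2 (by simp) (by simp) ≪≫
    hL.homologyIso⟩

lemma rightAcyclic_quotient [Injective S.X₂] (h : RightAcyclic F S.X₁) : RightAcyclic F S.X₃ :=
  fun j => (h (j + 1)).of_iso (rightDerivedShift hS F j).symm

/-- `R¹F` as a cokernel, for an acyclic middle term. -/
lemma nonempty_rightDerived_one_iso (h : RightAcyclic F S.X₂) :
    Nonempty ((F.rightDerived 1).obj S.X₁ ≅ cokernel (F.map S.g)) := by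
  obtain ⟨e⟩ := nonempty_rightDerived_one_iso_of_injective (F := F) (hullSeq_shortExact hS)
  obtain ⟨ψ, t, w, hψ, ht, hK⟩ := exists_ladder hS
  have hT := injSeq_shortExact S.X₂
  haveI : Epi (F.map (injSeq S.X₂).g) := epi_map_of_isZero_rightDerived_one F hT (h 0)
  haveI : Mono (injSeq S.X₂).f := hT.mono_f
  haveI : Mono ψ := hK.mono_f
  have hFK : ((ShortComplex.mk ψ t w).map F).Exact :=
    hK.exact.map_of_mono_of_preservesKernel F hK.mono_f inferInstance
  have hFT : ((injSeq S.X₂).map F).Exact :=
    hT.exact.map_of_mono_of_preservesKernel F hT.mono_f inferInstance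
  haveI : Mono (F.map ψ) := inferInstance
  let θ : cokernel (F.map S.g) ⟶ cokernel (F.map (hullSeq S).g) :=
    cokernel.map _ _ (F.map (Injective.ι S.X₂)) (F.map ψ) (by rw [← F.map_comp, ← F.map_comp, hψ])
  have h1 : cokernel.π (F.map S.g) ≫ θ = F.map ψ ≫ cokernel.π (F.map (hullSeq S).g) :=
    cokernel.π_desc _ _ _
  haveI : Mono θ := by
    rw [Preadditive.mono_iff_cancel_zero]
    intro P x hx
    obtain ⟨P', π, hπ, q, hq⟩ := surjective_up_to_refinements_of_epi (cokernel.π (F.map S.g)) x
    have hq0 : (q ≫ F.map ψ) ≫ cokernel.π (F.map (hullSeq S).g) = 0 := by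
      rw [Category.assoc, ← h1, ← Category.assoc, ← hq, Category.assoc, hx, comp_zero]
    obtain ⟨P'', π', hπ', j, hj⟩ := (ShortComplex.exact_of_g_is_cokernel
      (ShortComplex.mk (F.map (hullSeq S).g) _ (cokernel.condition _))
      (cokernelIsCokernel (F.map (hullSeq S).g))).exact_up_to_refinements (q ≫ F.map ψ) hq0
    have hj' : j ≫ F.map (hullSeq S).g = π' ≫ q ≫ F.map ψ := hj.symm
    obtain ⟨P₃, π₃, hπ₃, i, hi⟩ := hFT.exact_up_to_refinements j (by
      change j ≫ F.map (injSeq S.X₂).g = 0
      rw [← ht, F.map_comp, ← Category.assoc, hj', Category.assoc, Category.assoc, ← F.map_comp, w,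
        F.map_zero, comp_zero, comp_zero])
    have hi' : π₃ ≫ j = i ≫ F.map (Injective.ι S.X₂) := hi
    have hfin : (π₃ ≫ π' ≫ q) = i ≫ F.map S.g := by
      rw [← cancel_mono (F.map ψ)]
      simp only [Category.assoc]
      refine Eq.trans ?_ (congrArg (i ≫ ·) ((F.map_comp _ _).symm.trans
        ((congrArg F.map hψ).trans (F.map_comp _ _)))).symm
      rw [← hj', ← Category.assoc π₃ j]
      exact (congrArg (· ≫ F.map (hullSeq S).g) hi').trans (Category.assoc _ _ _)
    rw [← cancel_epi π, ← cancel_epi π', ← cancel_epi π₃, comp_zero, comp_zero, comp_zero, hq]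
    calc π₃ ≫ π' ≫ q ≫ cokernel.π (F.map S.g)
        = (π₃ ≫ π' ≫ q) ≫ cokernel.π (F.map S.g) := by simp only [Category.assoc]
      _ = 0 := by
        rw [hfin]
        exact (Category.assoc _ _ _).trans ((congrArg (i ≫ ·) (cokernel.condition _)).trans comp_zero)
  haveI : Epi θ := by
    rw [epi_iff_surjective_up_to_refinements]
    intro P x
    obtain ⟨P', π, hπ, p, hp⟩ :=
      surjective_up_to_refinements_of_epi (cokernel.π (F.map (hullSeq S).g)) x
    obtain ⟨P'', π', hπ', j, hj⟩ :=
      surjective_up_to_refinements_of_epi (F.map (injSeq S.X₂).g) (p ≫ F.map t)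
    obtain ⟨P₃, π₃, hπ₃, q, hq⟩ := hFK.exact_up_to_refinements (π' ≫ p - j ≫ F.map (hullSeq S).g) (by
      change (π' ≫ p - j ≫ F.map (hullSeq S).g) ≫ F.map t = 0
      rw [Preadditive.sub_comp, Category.assoc, Category.assoc, ← F.map_comp, ht, hj, sub_self])
    refine ⟨P₃, π₃ ≫ π' ≫ π, inferInstance, q ≫ cokernel.π (F.map S.g), ?_⟩
    have hq' : π₃ ≫ (π' ≫ p - j ≫ F.map (hullSeq S).g) = q ≫ F.map ψ := hq
    refine Eq.trans ?_ ((congrArg (q ≫ ·) h1).symm.trans (Category.assoc _ _ _).symm)
    refine Eq.trans ?_ (Category.assoc _ _ _)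
    rw [← hq', Preadditive.comp_sub, Preadditive.sub_comp]
    simp only [Category.assoc, hp, cokernel.condition, comp_zero, sub_zero]
  haveI := isIso_of_mono_of_epi θ
  exact ⟨e ≪≫ (asIso θ).symm⟩

/-- Two presentations with the same quotient, from a short exact sequence with acyclic middle. -/
lemma exists_common_quotient (h : RightAcyclic F S.X₂) :
    ∃ (V : ShortComplex C), V.ShortExact ∧ RightAcyclic F V.X₂ ∧ V.X₁ = (hullSeq S).X₃ ∧
      ∃ (e : V.X₃ = (injSeq S.X₃).X₃) (a : (injSeq S.X₃).X₂ ⟶ V.X₂),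
        a ≫ V.g ≫ eqToHom e = (injSeq S.X₃).g ∧
          F.map (V.g ≫ eqToHom e) ≫ cokernel.π (F.map (injSeq S.X₃).g) = 0 := by
  obtain ⟨ψ, t, w, hψ, ht, hK⟩ := exists_ladder hS
  haveI : Mono ψ := hK.mono_f
  haveI : Epi t := hK.epi_g
  have hT := injSeq_shortExact S.X₂
  haveI hepiT : Epi (F.map (injSeq S.X₂).g) := epi_map_of_isZero_rightDerived_one F hT (h 0)
  have hTac : RightAcyclic F (injSeq S.X₂).X₃ := rightAcyclic_quotient (F := F) hT h
  haveI : Epi (F.map t) := epi_of_epi_fac
    (show F.map (hullSeq S).g ≫ F.map t = F.map (injSeq S.X₂).g by rw [← F.map_comp, ht])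
  have hU := injSeq_shortExact S.X₃
  let U := injSeq S.X₃
  let e : (hullSeq S).X₃ ⟶ U.X₂ := Injective.factorThru U.f ψ
  have he : ψ ≫ e = U.f := Injective.comp_factorThru _ _
  obtain ⟨σ, hσ⟩ : ∃ σ, t ≫ σ = e ≫ U.g :=
    ⟨_, hK.gIsCokernel.fac (CokernelCofork.ofπ (e ≫ U.g)
      (by rw [← Category.assoc, he]; exact U.zero)) WalkingParallelPair.one⟩
  refine ⟨ShortComplex.mk (biprod.lift e t) (biprod.desc U.g (-σ))
    (by rw [biprod.lift_desc, Preadditive.comp_neg, hσ, add_neg_cancel]), ?_,
    rightAcyclic_biprod F (rightAcyclic_of_injective F U.X₂) hTac, rfl, rfl, biprod.inl, ?_, ?_⟩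
  · refine { exact := ?_, mono_f := ?_, epi_g := ?_ }
    · rw [ShortComplex.exact_iff_exact_up_to_refinements]
      intro P x₀ hx
      obtain ⟨x, rfl⟩ : ∃ x : P ⟶ U.X₂ ⊞ (injSeq S.X₂).X₃, x = x₀ := ⟨x₀, rfl⟩
      have hx' : (x ≫ biprod.fst) ≫ U.g = (x ≫ biprod.snd) ≫ σ := by
        have hx'' : x ≫ (biprod.fst ≫ U.g + biprod.snd ≫ (-σ)) = 0 := by
          rw [← biprod.desc_eq]
          exact hx
        rw [Preadditive.comp_add, Preadditive.comp_neg, Preadditive.comp_neg,
          ← sub_eq_add_neg, sub_eq_zero] at hx''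
        exact (Category.assoc _ _ _).trans (hx''.trans (Category.assoc _ _ _).symm)
      obtain ⟨P', π, hπ, p, hp⟩ := surjective_up_to_refinements_of_epi t (x ≫ biprod.snd)
      obtain ⟨P'', π', hπ', q, hq⟩ := hU.exact.exact_up_to_refinements
        (π ≫ x ≫ biprod.fst - p ≫ e) (by
          change (π ≫ x ≫ biprod.fst - p ≫ e) ≫ U.g = 0
          rw [Preadditive.sub_comp, Category.assoc π, hx', ← Category.assoc π, hp, Category.assoc,
            Category.assoc, hσ, sub_self])
      have hq' : π' ≫ (π ≫ x ≫ biprod.fst - p ≫ e) = q ≫ U.f := hq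
      refine ⟨P'', π' ≫ π, inferInstance, π' ≫ p + q ≫ ψ, ?_⟩
      change (π' ≫ π) ≫ x = (π' ≫ p + q ≫ ψ) ≫ biprod.lift e t
      apply biprod.hom_ext
      · simp only [Category.assoc, biprod.lift_fst, Preadditive.add_comp, he, ← hq',
          Preadditive.comp_sub, add_sub_cancel]
      · simp only [Category.assoc, biprod.lift_snd, Preadditive.add_comp, w, comp_zero, add_zero,
          hp]
    · change Mono (biprod.lift e t)
      rw [Preadditive.mono_iff_cancel_zero]
      intro P x hx
      have h1 : x ≫ e = 0 := by simpa using congrArg (· ≫ biprod.fst) hx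
      have h2 : x ≫ t = 0 := by simpa using congrArg (· ≫ biprod.snd) hx
      obtain ⟨P', π, hπ, q, hq⟩ := hK.exact.exact_up_to_refinements x h2
      have hq' : π ≫ x = q ≫ ψ := hq
      have hq0 : q = 0 := by
        haveI : Mono U.f := hU.mono_f
        rw [← cancel_mono U.f, zero_comp, ← he, ← Category.assoc, ← hq', Category.assoc, h1,
          comp_zero]
      rw [← cancel_epi π, hq', hq0, zero_comp, comp_zero]
    · haveI : Epi U.g := hU.epi_g
      exact epi_of_epi_fac (biprod.inl_desc U.g (-σ))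
  · simp [U]
  · have hs : F.map σ ≫ cokernel.π (F.map U.g) = 0 := by
      rw [← cancel_epi (F.map t), ← Category.assoc, ← F.map_comp, hσ, F.map_comp, Category.assoc,
        cokernel.condition, comp_zero, comp_zero]
    simp only [eqToHom_refl, Category.comp_id, biprod.desc_eq, Preadditive.comp_neg,
      Functor.map_add, Functor.map_neg, Functor.map_comp, Preadditive.add_comp, Preadditive.neg_comp,
      Category.assoc]
    rw [show F.map U.g ≫ cokernel.π (F.map U.g) = 0 from cokernel.condition _, hs]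
    simp

end

/-- Dimension shifting along an acyclic middle term. -/
theorem nonempty_rightDerived_shift (k : ℕ) : ∀ (S : ShortComplex C), S.ShortExact →
    RightAcyclic F S.X₂ →
      Nonempty ((F.rightDerived (k + 2)).obj S.X₁ ≅ (F.rightDerived (k + 1)).obj S.X₃) := by
  induction k with
  | zero =>
    intro S hS h
    obtain ⟨V, hV, hVac, hV1, e, a, ha, hz⟩ := exists_common_quotient (F := F) hS h
    obtain ⟨b⟩ := nonempty_rightDerived_one_iso_of_injective (F := F) (injSeq_shortExact S.X₃)
    obtain ⟨c⟩ := nonempty_rightDerived_one_iso (F := F) hV hVac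
    have hz' : F.map V.g ≫ F.map (eqToHom e) ≫ cokernel.π (F.map (injSeq S.X₃).g) = 0 := by
      rw [← Category.assoc, ← F.map_comp]
      exact hz
    have ha' : a ≫ V.g = (injSeq S.X₃).g ≫ eqToHom e.symm := by
      rw [← ha]
      simp
    let d : cokernel (F.map V.g) ≅ cokernel (F.map (injSeq S.X₃).g) :=
      { hom := cokernel.desc _ (F.map (eqToHom e) ≫ cokernel.π _) hz'
        inv := cokernel.desc _ (F.map (eqToHom e.symm) ≫ cokernel.π (F.map V.g)) (by
          rw [← Category.assoc, ← F.map_comp, ← ha', F.map_comp, Category.assoc, cokernel.condition,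
            comp_zero])
        hom_inv_id := by ext; simp [← Functor.map_comp_assoc]
        inv_hom_id := by ext; simp [← Functor.map_comp_assoc] }
    exact ⟨rightDerivedShift (hullSeq_shortExact hS) F 0 ≪≫ (F.rightDerived 1).mapIso (eqToIso hV1.symm)
      ≪≫ c ≪≫ d ≪≫ b.symm⟩
  | succ k ih =>
    intro S hS h
    obtain ⟨V, hV, hVac, hV1, e, a, ha, hz⟩ := exists_common_quotient (F := F) hS h
    obtain ⟨c⟩ := ih V hV hVac
    exact ⟨rightDerivedShift (hullSeq_shortExact hS) F (k + 1) ≪≫
      (F.rightDerived (k + 2)).mapIso (eqToIso hV1.symm) ≪≫ c ≪≫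
      (F.rightDerived (k + 1)).mapIso (eqToIso e) ≪≫
      (rightDerivedShift (injSeq_shortExact S.X₃) F k).symm⟩

end Groth.CohFin
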