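import Groth.Agent.CohFin.Linear
import Groth.Agent.CohBase.AffinePush
import Groth.Agent.CohTwo.Glue
import Groth.Agent.QCohMod.QCQS
import Groth.Agent.PropsBasic2.NoethScheme

/-!
Embedding a quasi-coherent module into one that is acyclic on `X`, after direct image, and on the
preimages of affine opens.
-/

universe u

open CategoryTheory CategoryTheory.Limits AlgebraicGeometry TopologicalSpace Opposite

namespace Groth.CohFin

open Groth.CohBase

variable {X : Scheme.{u}}

/-- A module annihilating all classes of a finite sum has vanishing cohomology. -/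
lemma subsingleton_H_of_decomp {W : Scheme.{u}} {ι : Type*} (s : Finset ι) (S : W.Modules)
    (C : ι → W.Modules) (p : ∀ i, S ⟶ C i) (q : ∀ i, C i ⟶ S) (h : ∑ i ∈ s, p i ≫ q i = 𝟙 S)
    (n : ℕ) (hC : ∀ i, Subsingleton (Coh.HH W (C i) n)) : Subsingleton (Coh.HH W S n) := by
  let g : W ⟶ Spec (CommRingCat.of Γ(W, ⊤)) := W.toSpecΓ
  let F : (S ⟶ S) →+ AddMonoid.End (HA g S n) :=
    AddMonoidHom.mk' (fun φ => (mapL g φ n).toAddMonoidHom)
      fun a b => AddMonoidHom.ext fun x => mapL_add g a b n x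
  refine subsingleton_of_forall_eq 0 fun x => ?_
  refine (mapL_id g S n x).symm.trans ?_
  change F (𝟙 S) x = 0
  rw [← h, map_sum]
  refine (AddMonoidHom.finsetSum_apply _ _ _).trans (Finset.sum_eq_zero fun i _ => ?_)
  change mapL g (p i ≫ q i) n x = 0
  haveI : Subsingleton (HA g (C i) n) := hC i
  refine (mapL_comp g (p i) (q i) n x).trans ?_
  exact (congrArg (mapL g (q i) n) (Subsingleton.elim _ 0)).trans (map_zero _)

/-- A morphism from an affine scheme to a separated scheme is affine. -/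
lemma isAffineHom_of_separated {Y : Scheme.{u}} [IsAffine Y] [X.IsSeparated] (h : Y ⟶ X) :
    IsAffineHom h :=
  MorphismProperty.of_postcomp (W := @IsAffineHom) (W' := @IsSeparated) h (terminal.from X)
    inferInstance inferInstance

lemma isAffineHom_ι [X.IsSeparated] (U : X.Opens) (hU : IsAffineOpen U) : IsAffineHom U.ι :=
  haveI : IsAffine ↑U := hU
  isAffineHom_of_separated U.ι

/-- `M` extended from its restriction to an open. -/
noncomputable abbrev cmp (U : X.Opens) (M : X.Modules) : X.Modules :=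
  (Scheme.Modules.pushforward U.ι).obj (M.restrict U.ι)

lemma isQCoh_cmp [X.IsSeparated] (U : X.Opens) (hU : IsAffineOpen U) (M : X.Modules)
    [M.IsQuasicoherent] : (cmp U M).IsQuasicoherent :=
  haveI := isAffineHom_ι U hU
  Groth.QCohMod.isQCoh_pushforward (M.restrict U.ι) U.ι

lemma subsingleton_H_cmp [X.IsSeparated] (U : X.Opens) (hU : IsAffineOpen U) (M : X.Modules)
    [M.IsQuasicoherent] (n : ℕ) : Subsingleton (Coh.HH X (cmp U M) (n + 1)) := by
  haveI := isAffineHom_ι U hU
  haveI : IsAffine ↑U := hU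
  obtain ⟨e⟩ := nonempty_equiv_H_push U.ι (M.restrict U.ι) (n + 1)
  haveI : Subsingleton (Sheaf.H (abSheaf (M.restrict U.ι)) (n + 1) : Type u) :=
    (subsingleton_H_iff _ _).2 (hVanish_of_isAffineOpen _ (isAffineOpen_top _) n)
  exact e.toEquiv.subsingleton

variable {Z : Scheme.{u}} (π : X ⟶ Z)

lemma subsingleton_H_push_cmp [Z.IsSeparated] (U : X.Opens) (hU : IsAffineOpen U) (M : X.Modules)
    [M.IsQuasicoherent] (n : ℕ) :
    Subsingleton (Coh.HH Z ((Scheme.Modules.pushforward π).obj (cmp U M)) (n + 1)) := by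
  haveI : IsAffine ↑U := hU
  haveI := isAffineHom_of_separated (U.ι ≫ π)
  obtain ⟨e⟩ := nonempty_equiv_H_push (U.ι ≫ π) (M.restrict U.ι) (n + 1)
  haveI : Subsingleton (Sheaf.H (abSheaf (M.restrict U.ι)) (n + 1) : Type u) :=
    (subsingleton_H_iff _ _).2 (hVanish_of_isAffineOpen _ (isAffineOpen_top _) n)
  exact e.toEquiv.subsingleton

lemma subsingleton_H_preimage_cmp [X.IsSeparated] [Z.IsSeparated] (U : X.Opens)
    (hU : IsAffineOpen U) (M : X.Modules) [M.IsQuasicoherent] {V : Z.Opens} (hV : IsAffineOpen V)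
    (n : ℕ) : Subsingleton (Coh.HH ↑(π ⁻¹ᵁ V) ((cmp U M).restrict (π ⁻¹ᵁ V).ι) (n + 1)) := by
  haveI := isAffineHom_ι U hU
  haveI : IsAffine ↑U := hU
  obtain ⟨e1⟩ := nonempty_equiv_HHon (cmp U M) (π ⁻¹ᵁ V) (n + 1)
  obtain ⟨e2⟩ := (pushAcyclic_of_isAffineHom U.ι (M.restrict U.ι)).nonempty_equiv_H' (n + 1)
    (π ⁻¹ᵁ V)
  haveI := isAffineHom_of_separated (U.ι ≫ π)
  have h := hVanish_of_isAffineOpen (M.restrict U.ι)
    (U := U.ι ⁻¹ᵁ (π ⁻¹ᵁ V)) (hV.preimage (U.ι ≫ π)) n
  exact @Equiv.subsingleton _ _ (e1.trans e2).toEquiv h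

/-- A module embedded in one that is acyclic on `X`, on `Z` after direct image, and on preimages of
affine opens of `Z`. -/
structure AcycEmb (M : X.Modules) where
  /-- the acyclic module -/
  I : X.Modules
  /-- the embedding -/
  ι : M ⟶ I
  mono : Mono ι
  qcoh : I.IsQuasicoherent
  hX : ∀ n, Subsingleton (Coh.HH X I (n + 1))
  hZ : ∀ n, Subsingleton (Coh.HH Z ((Scheme.Modules.pushforward π).obj I) (n + 1))
  hV : ∀ (V : Z.Opens), IsAffineOpen V → ∀ n,
    Subsingleton (Coh.HH ↑(π ⁻¹ᵁ V) (I.restrict (π ⁻¹ᵁ V).ι) (n + 1))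

theorem nonempty_acycEmb [CompactSpace X] [X.IsSeparated] [Z.IsSeparated] (M : X.Modules)
    [M.IsQuasicoherent] : Nonempty (AcycEmb π M) := by
  classical
  obtain ⟨T, hT⟩ := Groth.PropsBasic2.exists_finite_affine_cover X
  let C : T → X.Modules := fun V => cmp V.1.1 M
  let u : ∀ V, M ⟶ C V := fun V => (Scheme.Modules.restrictAdjunction V.1.1.ι).unit.app M
  haveI : ∀ j, ((Discrete.functor C).obj j).IsQuasicoherent := fun j => isQCoh_cmp _ j.as.1.2 M
  let S := ∐ C
  have hq : S.IsQuasicoherent :=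
    Groth.QCohMod.isQCoh_of_isColimit (Discrete.functor C) _ (colimit.isColimit _)
  let p : ∀ i, S ⟶ C i := fun i =>
    Sigma.desc fun j => if h : j = i then eqToHom (congrArg C h) else 0
  have hp : ∀ j i, Sigma.ι C j ≫ p i = if h : j = i then eqToHom (congrArg C h) else 0 :=
    fun j i => Sigma.ι_desc _ _
  have htot : ∑ i, p i ≫ Sigma.ι C i = 𝟙 S := by
    refine Sigma.hom_ext _ _ fun j => ?_
    rw [Preadditive.comp_sum, Category.comp_id, Finset.sum_eq_single j]
    · rw [← Category.assoc, hp, dif_pos rfl, eqToHom_refl, Category.id_comp]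
    · intro i _ hi
      rw [← Category.assoc, hp, dif_neg (Ne.symm hi), zero_comp]
    · simp
  let ι : M ⟶ S := ∑ i, u i ≫ Sigma.ι C i
  have hι : ∀ i, ι ≫ p i = u i := fun i => by
    rw [Preadditive.sum_comp, Finset.sum_eq_single i]
    · rw [Category.assoc, hp, dif_pos rfl, eqToHom_refl, Category.comp_id]
    · intro j _ hj
      rw [Category.assoc, hp, dif_neg hj, comp_zero]
    · simp
  refine ⟨⟨S, ι, ?_, hq, fun n => ?_, fun n => ?_, fun V hV n => ?_⟩⟩
  · refine (Groth.CohTwo.mono_iff_app_injective ι).2 fun W => ?_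
    refine (injective_iff_map_eq_zero _).2 fun s hs => Groth.CohTwo.eq_of_local M _ _ fun x hx => ?_
    obtain ⟨V, hxV⟩ := Opens.mem_iSup.1 (hT.ge (show x ∈ (⊤ : X.Opens) from trivial))
    have h0 : (u V).app W s = 0 := by
      rw [← hι V]
      change (p V).app W (ι.app W s) = 0
      rw [hs, map_zero]
    refine ⟨V.1.1.ι ''ᵁ (V.1.1.ι ⁻¹ᵁ W), V.1.1.ι.image_preimage_le W, ?_, ?_⟩
    · rw [Scheme.Hom.image_preimage_eq_opensRange_inf, Scheme.Opens.opensRange_ι]
      exact ⟨hxV, hx⟩
    · refine Eq.trans h0 (map_zero _).symm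
  · exact subsingleton_H_of_decomp Finset.univ S C p (Sigma.ι C) htot _
      fun i => subsingleton_H_cmp _ i.1.2 M n
  · refine subsingleton_H_of_decomp Finset.univ _ (fun i => (Scheme.Modules.pushforward π).obj (C i))
      (fun i => (Scheme.Modules.pushforward π).map (p i))
      (fun i => (Scheme.Modules.pushforward π).map (Sigma.ι C i)) ?_ _
      fun i => subsingleton_H_push_cmp π _ i.1.2 M n
    simp only [← Functor.map_comp]
    rw [← Functor.map_sum]
    exact (congrArg (Scheme.Modules.pushforward π).map htot).trans (CategoryTheory.Functor.map_id _ _)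
  · refine subsingleton_H_of_decomp Finset.univ _
      (fun i => (C i).restrict (π ⁻¹ᵁ V).ι)
      (fun i => (Scheme.Modules.restrictFunctor (π ⁻¹ᵁ V).ι).map (p i))
      (fun i => (Scheme.Modules.restrictFunctor (π ⁻¹ᵁ V).ι).map (Sigma.ι C i)) ?_ _
      fun i => subsingleton_H_preimage_cmp π _ i.1.2 M hV n
    simp only [← Functor.map_comp]
    haveI := (Scheme.Modules.restrictAdjunction (π ⁻¹ᵁ V).ι).left_adjoint_additive
    rw [← Functor.map_sum]
    exact (congrArg (Scheme.Modules.restrictFunctor (π ⁻¹ᵁ V).ι).map htot).trans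
      (CategoryTheory.Functor.map_id _ _)

end Groth.CohFin
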