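import Groth.Agent.CohFin.GradedParts

/-!
Finiteness and vanishing in high degree for the Čech complex of a good graded family.
-/

universe u

open MvPolynomial

namespace Groth.CohFin

/-- Pulling back a finiteness bound along a linear map. -/
lemma fin_pullback {B M N : Type*} [CommRing B] [IsNoetherianRing B] [AddCommGroup M] [Module B M]
    [AddCommGroup N] [Module B N] (g : M →ₗ[B] N) (P : Submodule B M) (Q' F' : Submodule B N)
    (hF' : F'.FG) (h : P.map g ≤ F' ⊔ Q') :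
    ∃ F : Submodule B M, F.FG ∧ F ≤ P ∧ P ≤ F ⊔ (P ⊓ Q'.comap g) := by
  classical
  have := isNoetherian_of_fg_of_noetherian _ hF'
  have hW : ((P.map g ⊔ Q') ⊓ F').FG := by
    have h := (IsNoetherian.noetherian ((P.map g ⊔ Q').comap F'.subtype)).map F'.subtype
    rwa [Submodule.map_comap_subtype, inf_comm] at h
  obtain ⟨T, hT⟩ := hW
  have hsel : ∀ y : T, ∃ x, x ∈ P ∧ (y : N) - g x ∈ Q' := fun y => by
    have hy : (y : N) ∈ (P.map g ⊔ Q') ⊓ F' := hT ▸ Submodule.subset_span y.2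
    obtain ⟨_, ⟨x, hx, rfl⟩, q, hq, e⟩ := Submodule.mem_sup.1 hy.1
    exact ⟨x, hx, by rw [← e]; simpa using hq⟩
  choose x hxP hxQ using hsel
  refine ⟨Submodule.span B (Set.range x), Submodule.fg_span (Set.finite_range x),
    Submodule.span_le.2 (by rintro _ ⟨y, rfl⟩; exact hxP y), ?_⟩
  have hF : (P.map g ⊔ Q') ⊓ F' ≤ (Submodule.span B (Set.range x)).map g ⊔ Q' := by
    rw [← hT, Submodule.span_le]
    intro y hy
    refine Submodule.mem_sup.2 ⟨g (x ⟨y, hy⟩),
      ⟨_, Submodule.subset_span ⟨⟨y, hy⟩, rfl⟩, rfl⟩, y - g (x ⟨y, hy⟩), hxQ ⟨y, hy⟩, ?_⟩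
    abel
  intro c hc
  obtain ⟨f, hf, q, hq, e⟩ := Submodule.mem_sup.1 (h ⟨c, hc, rfl⟩)
  have hfW : f ∈ (P.map g ⊔ Q') ⊓ F' :=
    ⟨Submodule.mem_sup.2 ⟨g c, ⟨c, hc, rfl⟩, -q, neg_mem hq, by rw [← e]; abel⟩, hf⟩
  obtain ⟨_, ⟨y, hy, rfl⟩, q', hq', e'⟩ := Submodule.mem_sup.1 (hF hfW)
  refine Submodule.mem_sup.2 ⟨y, hy, c - y, ⟨sub_mem hc ?_, ?_⟩, by abel⟩
  · exact Submodule.span_le.2 (by rintro _ ⟨z, rfl⟩; exact hxP z) hy
  · change g (c - y) ∈ Q'
    rw [map_sub, ← e, ← e', add_assoc, add_sub_cancel_left]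
    exact add_mem hq' hq

variable {ι : Type u} [DecidableEq ι] {B : Type u} [CommRing B] {V : Type u} [AddCommGroup V]
  [Module (MvPolynomial ι B) V] [Module B V] [IsScalarTower B (MvPolynomial ι B) V]

open CSys

variable (ι B V) in
/-- Cochains with values in the localisations. -/
abbrev Cc (p : ℕ) : Type u := ∀ x : Fin p → ι, Loc B V (img x)

variable (B V) in
/-- The differential. -/
noncomputable def dd (p : ℕ) : Cc ι B V p →ₗ[B] Cc ι B V (p + 1) :=
  (locSys (ι := ι) B V).d p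

lemma dd_apply {p : ℕ} (c : Cc ι B V p) (x : Fin (p + 1) → ι) :
    dd B V p c x = ∑ i : Fin (p + 1),
      (-1 : ℤ) ^ (i : ℕ) • rmap (B := B) (img_comp x i.succAbove) (c (x ∘ i.succAbove)) := rfl

lemma dd_dd {p : ℕ} (c : Cc ι B V p) : dd B V (p + 1) (dd B V p c) = 0 :=
  CSys.d_d p (locSys (ι := ι) B V) c

variable (B V) in
/-- Multiplication of cochains by a variable. -/
noncomputable def mulC (k : ι) (p : ℕ) : Cc ι B V p →ₗ[B] Cc ι B V p :=
  LinearMap.pi fun x => (mulLoc B V k (img x)).comp (LinearMap.proj x)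

lemma mulC_apply {k : ι} {p : ℕ} (c : Cc ι B V p) (x : Fin p → ι) :
    mulC B V k p c x = (X k : MvPolynomial ι B) • c x := rfl

lemma mulC_dd (k : ι) {p : ℕ} (c : Cc ι B V p) :
    mulC B V k (p + 1) (dd B V p c) = dd B V p (mulC B V k p c) := by
  funext x
  rw [mulC_apply, dd_apply, dd_apply, Finset.smul_sum]
  refine Finset.sum_congr rfl fun i _ => ?_
  rw [smul_comm]
  congr 1
  exact (map_smul (rmap (B := B) (V := V) (img_comp x i.succAbove)) (X k) (c (x ∘ i.succAbove))).symm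

/-- Cochains of degree `e` in a family. -/
noncomputable def CP (D : ℕ → Submodule B V) (e : ℤ) (p : ℕ) : Submodule B (Cc ι B V p) :=
  Submodule.pi Set.univ fun x => Part D e (img x)

lemma mem_CP {D : ℕ → Submodule B V} {e : ℤ} {p : ℕ} {c : Cc ι B V p} :
    c ∈ CP D e p ↔ ∀ x, c x ∈ Part D e (img x) := by simp [CP, Submodule.mem_pi]

lemma CP_mono {D E : ℕ → Submodule B V} (h : ∀ d, E d ≤ D d) (e : ℤ) (p : ℕ) :
    CP (ι := ι) E e p ≤ CP D e p :=
  fun _ hc => mem_CP.2 fun x => part_mono h e _ (mem_CP.1 hc x)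

lemma dd_mem {D : ℕ → Submodule B V} {e : ℤ} {p : ℕ} {c : Cc ι B V p} (hc : c ∈ CP D e p) :
    dd B V p c ∈ CP D e (p + 1) :=
  mem_CP.2 fun x => by
    rw [dd_apply]
    exact Submodule.sum_mem _ fun i _ => zsmul_mem (rmap_mem_part _ (mem_CP.1 hc _)) _

lemma rmap_congr {p : ℕ} (c : Cc ι B V p) {x y : Fin p → ι} (h : x = y) {s : Finset ι}
    (hx : img x ⊆ s) (hy : img y ⊆ s) :
    rmap (B := B) hx (c x) = rmap (B := B) hy (c y) := by
  subst h
  rfl

variable (B V) in
/-- The cochain obtained by fixing the first entry. -/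
noncomputable def shC (k : ι) {p : ℕ} (c : Cc ι B V (p + 1)) (x : Fin p → ι) :
    Loc B V (insert k (img x)) :=
  rmap (B := B) (img_cons k x).le (c (Fin.cons k x))

lemma shC_dd (k : ι) {p : ℕ} (c : Cc ι B V (p + 1)) (x : Fin (p + 1) → ι) :
    shC B V k (dd B V (p + 1) c) x = rmap (B := B) (Finset.subset_insert k _) (c x) -
      ∑ i : Fin (p + 1), (-1 : ℤ) ^ (i : ℕ) •
        rmap (B := B) (Finset.insert_subset_insert k (img_comp x i.succAbove))
          (shC B V k c (x ∘ i.succAbove)) :=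
  congrFun (CSys.sh_d (locSys (ι := ι) B V) k c) x

lemma rmap_insert_dd (k : ι) {p : ℕ} (h : Cc ι B V p) (x : Fin (p + 1) → ι) :
    rmap (B := B) (Finset.subset_insert k _) (dd B V p h x) =
      ∑ i : Fin (p + 1), (-1 : ℤ) ^ (i : ℕ) •
        rmap (B := B) (Finset.insert_subset_insert k (img_comp x i.succAbove))
          (rmap (B := B) (Finset.subset_insert k _) (h (x ∘ i.succAbove))) :=
  congrFun (CSys.up_d (locSys (ι := ι) B V) k h) x

lemma mulC_mem {D : ℕ → Submodule B V} (hD : IsFam (ι := ι) D) (k : ι) {e : ℤ} {p : ℕ}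
    {c : Cc ι B V p} (hc : c ∈ CP D e p) : mulC B V k p c ∈ CP D (e + 1) p :=
  mem_CP.2 fun x => mulLoc_mem_part hD k (mem_CP.1 hc x)

/-- Cocycles of the quotient of two families. -/
noncomputable def Zc (D E : ℕ → Submodule B V) (e : ℤ) (p : ℕ) : Submodule B (Cc ι B V p) :=
  CP D e p ⊓ (CP E e (p + 1)).comap (dd B V p)

/-- Coboundaries of the quotient of two families. -/
noncomputable def Bc (D E : ℕ → Submodule B V) (e : ℤ) : ∀ p, Submodule B (Cc ι B V p)
  | 0 => CP E e 0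
  | p + 1 => (CP D e p).map (dd B V p) ⊔ CP E e (p + 1)

/-- Vanishing of the cohomology in degree `e`. -/
def Van (D E : ℕ → Submodule B V) (e : ℤ) (p : ℕ) : Prop :=
  Zc (ι := ι) D E e p ≤ Bc D E e p

/-- Finiteness of the cohomology in degree `e`. -/
def Fin' (D E : ℕ → Submodule B V) (e : ℤ) (p : ℕ) : Prop :=
  ∃ F : Submodule B (Cc ι B V p), F.FG ∧ Zc D E e p ≤ F ⊔ Bc D E e p

lemma Van.fin {D E : ℕ → Submodule B V} {e : ℤ} {p : ℕ} (h : Van (ι := ι) D E e p) :
    Fin' (ι := ι) D E e p :=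
  ⟨⊥, Submodule.fg_bot, h.trans le_sup_right⟩

/-- Finiteness in all degrees and vanishing in high degrees. -/
def Nice (D E : ℕ → Submodule B V) (p : ℕ) : Prop :=
  (∀ e, Fin' (ι := ι) D E e p) ∧ ∃ e₀ : ℤ, ∀ e ≥ e₀, Van (ι := ι) D E e p

lemma CP_le_Bc {D E : ℕ → Submodule B V} {e : ℤ} (p : ℕ) : CP (ι := ι) E e p ≤ Bc D E e p := by
  cases p with
  | zero => exact le_rfl
  | succ p => exact le_sup_right

lemma nice_of_le {D E : ℕ → Submodule B V} (h : ∀ d, D d ≤ E d) (p : ℕ) : Nice (ι := ι) D E p := by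
  have h' : ∀ e, Van (ι := ι) D E e p := fun e =>
    (inf_le_left.trans (CP_mono h e p)).trans (CP_le_Bc p)
  exact ⟨fun e => (h' e).fin, 0, fun e _ => h' e⟩

lemma bc_inf_zc_le {D G E : ℕ → Submodule B V} (hG : ∀ d, G d ≤ D d) (e : ℤ) (p : ℕ) :
    Zc (ι := ι) D E e p ⊓ Bc D G e p ≤ Bc D E e p ⊔ Zc G E e p := by
  rintro c ⟨hc, hc'⟩
  cases p with
  | zero => exact Submodule.mem_sup_right ⟨hc', hc.2⟩
  | succ p =>
    obtain ⟨_, ⟨h, hh, rfl⟩, γ, hγ, rfl⟩ := Submodule.mem_sup.1 hc'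
    refine Submodule.add_mem_sup (Submodule.mem_sup_left ⟨h, hh, rfl⟩) ⟨hγ, ?_⟩
    have := hc.2
    change dd B V (p + 1) (dd B V p h + γ) ∈ CP E e (p + 2) at this
    rwa [map_add, show dd B V (p + 1) (dd B V p h) = 0 from dd_dd h, zero_add] at this

lemma zc_mono_right {D E G : ℕ → Submodule B V} (h : ∀ d, E d ≤ G d) (e : ℤ) (p : ℕ) :
    Zc (ι := ι) D E e p ≤ Zc D G e p :=
  inf_le_inf_left _ (Submodule.comap_mono (CP_mono h e (p + 1)))

lemma bc_mono_left {D G E : ℕ → Submodule B V} (h : ∀ d, G d ≤ D d) (e : ℤ) :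
    ∀ p, Bc (ι := ι) G E e p ≤ Bc D E e p
  | 0 => le_rfl
  | p + 1 => sup_le_sup_right (Submodule.map_mono (CP_mono h e p)) _

variable [IsNoetherianRing B]

/-- Extensions. -/
theorem Nice.trans {D G E : ℕ → Submodule B V} (hEG : ∀ d, E d ≤ G d) (hGD : ∀ d, G d ≤ D d)
    {p : ℕ} (h₁ : Nice (ι := ι) D G p) (h₂ : Nice (ι := ι) G E p) : Nice (ι := ι) D E p := by
  refine ⟨fun e => ?_, ?_⟩
  · obtain ⟨F, hF, hle⟩ := h₁.1 e
    obtain ⟨F', hF', hle'⟩ := h₂.1 e
    obtain ⟨F₁, hF₁, -, hle₁⟩ := fin_pullback LinearMap.id (Zc (ι := ι) D E e p) (Bc D G e p) F hF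
      (by rw [Submodule.map_id]; exact (zc_mono_right hEG e p).trans hle)
    rw [Submodule.comap_id] at hle₁
    refine ⟨F₁ ⊔ F', hF₁.sup hF', hle₁.trans (sup_le (le_sup_left.trans le_sup_left) ?_)⟩
    refine (bc_inf_zc_le hGD e p).trans (sup_le le_sup_right (hle'.trans ?_))
    exact sup_le (le_sup_right.trans le_sup_left) ((bc_mono_left hGD e p).trans le_sup_right)
  · obtain ⟨e₁, h₁⟩ := h₁.2
    obtain ⟨e₂, h₂⟩ := h₂.2
    refine ⟨max e₁ e₂, fun e he => ?_⟩
    have hle : Zc (ι := ι) D E e p ≤ Zc D E e p ⊓ Bc D G e p :=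
      le_inf le_rfl ((zc_mono_right hEG e p).trans (h₁ e (le_of_max_le_left he)))
    refine hle.trans ((bc_inf_zc_le hGD e p).trans (sup_le le_rfl ?_))
    exact (h₂ e (le_of_max_le_right he)).trans (bc_mono_left hGD e p)

omit [IsNoetherianRing B] in
lemma img_single (k : ι) (x : Fin 0 → ι) : img (Fin.cons k x : Fin 1 → ι) ⊆ insert k (img x) := by
  rw [img_cons]

omit [IsNoetherianRing B] in
lemma zero_step {D E : ℕ → Submodule B V} (hD : IsFam (ι := ι) D) (hE : IsFam (ι := ι) E) {k : ι}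
    (hS : Sat k D E) (e : ℤ) : Van (ι := ι) D E e 0 := by
  rintro c ⟨hc, hdc⟩
  refine mem_CP.2 fun x => ?_
  have h := mem_CP.1 hdc (Fin.cons k x)
  rw [dd_apply, Fin.sum_univ_one, Fin.val_zero, pow_zero, one_smul] at h
  have e0 : (Fin.cons k x : Fin 1 → ι) ∘ (0 : Fin 1).succAbove = x := funext fun a => a.elim0
  rw [rmap_congr c e0 _ (img_subset_cons k x)] at h
  obtain ⟨m, hm⟩ := exists_pow_smul_mem hD hE (k := k) (img_subset_cons k x) (img_single k x)
    (mem_CP.1 hc x) h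
  have hz := mem_CP.1 hc x
  generalize c x = z at hm hz
  clear h hdc hc
  induction m generalizing z e with
  | zero => simpa using hm
  | succ m ih =>
    have hm' : (X k : MvPolynomial ι B) ^ m • mulLoc B V k (img x) z ∈
        Part E (e + 1 + m) (img x) := by
      rw [mulLoc_apply, smul_smul, ← pow_succ]
      rwa [show e + 1 + (m : ℤ) = e + ((m + 1 : ℕ) : ℤ) by push_cast; ring]
    have hz' : mulLoc B V k (img x) z ∈ Part D (e + 1) (img x) := mulLoc_mem_part hD k hz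
    refine hS.part hD hE hz ?_
    apply ih <;> assumption

variable [Finite ι]

omit [IsNoetherianRing B] in
lemma exists_pow_mem_bc {D E : ℕ → Submodule B V} (hD : IsFam (ι := ι) D) (hE : IsFam (ι := ι) E)
    (k : ι) {e : ℤ} {p : ℕ} {c : Cc ι B V (p + 1)} (hc : c ∈ Zc D E e (p + 1)) :
    ∃ m : ℕ, (mulC B V k (p + 1) ^ m) c ∈ Bc D E (e + m) (p + 1) := by
  classical
  haveI := Fintype.ofFinite ι
  have hpow : ∀ (q m : ℕ) (b : Cc ι B V q) x,
      (mulC B V k q ^ m) b x = (X k : MvPolynomial ι B) ^ m • b x := fun q m => by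
    induction m with
    | zero => intro b x; simp
    | succ m ih => intro b x; rw [pow_succ', Module.End.mul_apply, mulC_apply, ih, smul_smul, ← pow_succ']
  have hw : ∀ x : Fin p → ι, ∃ m₀ : ℕ, ∀ m ≥ m₀, ∃ z ∈ Part D (e + m) (img x),
      rmap (B := B) (Finset.subset_insert k _) z =
        (X k : MvPolynomial ι B) ^ m • shC B V k c x := fun x =>
    exists_rmap_eq hD (Finset.subset_insert k _) (Finset.Subset.refl _)
      (rmap_mem_part (e := e) (img_cons k x).le (mem_CP.1 hc.1 (Fin.cons k x)))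
  choose m₀ hm₀ using hw
  choose h hh hh' using fun x => hm₀ x (Finset.univ.sup m₀) (Finset.le_sup (Finset.mem_univ x))
  generalize hM : Finset.univ.sup m₀ = M at h hh hh'
  let γ : Cc ι B V (p + 1) := (mulC B V k (p + 1) ^ M) c - dd B V p h
  have hγD : γ ∈ CP D (e + M) (p + 1) := by
    refine sub_mem (mem_CP.2 fun x => ?_) (dd_mem (mem_CP.2 hh))
    rw [hpow]
    have : ∀ m : ℕ, (X k : MvPolynomial ι B) ^ m • c x ∈ Part D (e + m) (img x) := fun m => by
      induction m with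
      | zero => simpa using mem_CP.1 hc.1 x
      | succ m ih =>
        rw [pow_succ', mul_smul, Nat.cast_succ, ← add_assoc]
        exact mulLoc_mem_part hD k ih
    exact this M
  have hup : ∀ x : Fin (p + 1) → ι,
      rmap (B := B) (Finset.subset_insert k _) (γ x) ∈ Part E (e + M) (insert k (img x)) := by
    intro x
    have h₂ : rmap (B := B) (Finset.subset_insert k _) (γ x) =
        (X k : MvPolynomial ι B) ^ M • shC B V k (dd B V (p + 1) c) x := by
      change rmap (B := B) _ ((mulC B V k (p + 1) ^ M) c x - dd B V p h x) = _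
      rw [map_sub, hpow, map_smul, rmap_insert_dd, shC_dd, smul_sub, Finset.smul_sum]
      congr 1
      refine Finset.sum_congr rfl fun i _ => ?_
      rw [hh', smul_comm ((X k : MvPolynomial ι B) ^ M) ((-1 : ℤ) ^ (i : ℕ)), map_smul]
    rw [h₂]
    have hsh : shC B V k (dd B V (p + 1) c) x ∈ Part E e (insert k (img x)) :=
      rmap_mem_part _ (mem_CP.1 hc.2 _)
    generalize shC B V k (dd B V (p + 1) c) x = z at hsh
    have : ∀ m : ℕ, (X k : MvPolynomial ι B) ^ m • z ∈ Part E (e + m) (insert k (img x)) := fun m => by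
      induction m with
      | zero => simpa using hsh
      | succ m ih =>
        rw [pow_succ', mul_smul, Nat.cast_succ, ← add_assoc]
        exact mulLoc_mem_part hE k ih
    exact this M
  choose m₁ hm₁ using fun x => exists_pow_smul_mem hD hE (Finset.subset_insert k _)
    (Finset.Subset.refl _) (mem_CP.1 hγD x) (hup x)
  refine ⟨Finset.univ.sup m₁ + M, ?_⟩
  have hγE : (mulC B V k (p + 1) ^ Finset.univ.sup m₁) γ ∈
      CP E (e + M + Finset.univ.sup m₁) (p + 1) := by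
    refine mem_CP.2 fun x => ?_
    rw [hpow]
    have : ∀ j : ℕ, (X k : MvPolynomial ι B) ^ (m₁ x + j) • γ x ∈
        Part E (e + M + ((m₁ x + j : ℕ) : ℤ)) (img x) := fun j => by
      induction j with
      | zero => exact hm₁ x
      | succ j ih =>
        rw [← add_assoc, pow_succ', mul_smul, Nat.cast_succ, ← add_assoc (e + (M : ℤ))]
        exact mulLoc_mem_part hE k ih
    have h := this (Finset.univ.sup m₁ - m₁ x)
    rwa [Nat.add_sub_cancel' (Finset.le_sup (Finset.mem_univ x))] at h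
  have hcomm : ∀ (m : ℕ) (b : Cc ι B V p),
      (mulC B V k (p + 1) ^ m) (dd B V p b) = dd B V p ((mulC B V k p ^ m) b) := fun m b => by
    induction m with
    | zero => simp
    | succ m ih => rw [pow_succ', Module.End.mul_apply, ih, mulC_dd, pow_succ', Module.End.mul_apply]
  have hhm : ∀ m : ℕ, (mulC B V k p ^ m) h ∈ CP D (e + M + m) p := fun m => by
    induction m with
    | zero => simpa using mem_CP.2 hh
    | succ m ih =>
      rw [pow_succ', Module.End.mul_apply, Nat.cast_succ, ← add_assoc]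
      exact mulC_mem hD k ih
  refine Submodule.mem_sup.2 ⟨_, ⟨(mulC B V k p ^ Finset.univ.sup m₁) h, ?_, rfl⟩,
    (mulC B V k (p + 1) ^ Finset.univ.sup m₁) γ, ?_, ?_⟩
  · have := hhm (Finset.univ.sup m₁)
    rwa [show e + ((Finset.univ.sup m₁ + M : ℕ) : ℤ) = e + M + Finset.univ.sup m₁ by push_cast; ring]
  · rwa [show e + ((Finset.univ.sup m₁ + M : ℕ) : ℤ) = e + M + Finset.univ.sup m₁ by push_cast; ring]
  · rw [← hcomm, ← map_add, add_sub_cancel, pow_add, Module.End.mul_apply]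

/-- The step for a saturated pair. -/
theorem nice_of_sat {D E : ℕ → Submodule B V} (hD : IsFam (ι := ι) D) (hE : IsFam (ι := ι) E)
    (hED : ∀ d, E d ≤ D d) {k : ι} (hS : Sat k D E)
    (hbar : ∀ p, Nice (ι := ι) D (addMulX k D E) p) (p : ℕ) : Nice (ι := ι) D E p := by
  cases p with
  | zero => exact ⟨fun e => (zero_step hD hE hS e).fin, 0, fun e _ => zero_step hD hE hS e⟩
  | succ p =>
  have hX : ∀ (e : ℤ) c, c ∈ Zc (ι := ι) D E e (p + 1) →
      mulC B V k (p + 1) c ∈ Zc D E (e + 1) (p + 1) := fun e c hc => by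
    refine ⟨mulC_mem hD k hc.1, ?_⟩
    change dd B V (p + 1) (mulC B V k (p + 1) c) ∈ CP E (e + 1) (p + 2)
    rw [← mulC_dd]
    exact mulC_mem hE k hc.2
  let Q' := fun e : ℤ =>
    (Bc (ι := ι) D E e (p + 1)).map (mulC B V k (p + 1)) ⊔ CP E (e + 1) (p + 1)
  have hsat : ∀ (e : ℤ) c, c ∈ Zc (ι := ι) D E e (p + 1) → mulC B V k (p + 1) c ∈ Q' e →
      c ∈ Bc D E e (p + 1) := fun e c hc hcX => by
    obtain ⟨_, ⟨b, hb, rfl⟩, ε, hε, hbε⟩ := Submodule.mem_sup.1 hcX
    have hbD : b ∈ CP D e (p + 1) := by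
      obtain ⟨_, ⟨t, ht, rfl⟩, η, hη, rfl⟩ := Submodule.mem_sup.1 hb
      exact add_mem (dd_mem ht) (CP_mono hED e _ hη)
    have hcb : c - b ∈ CP E e (p + 1) := mem_CP.2 fun x => by
      refine hS.part hD hE (sub_mem (mem_CP.1 hc.1 x) (mem_CP.1 hbD x)) ?_
      rw [Pi.sub_apply, map_sub]
      have h : mulLoc B V k _ (c x) - mulLoc B V k _ (b x) = ε x := by
        have := congrFun hbε x
        rw [Pi.add_apply, mulC_apply, mulC_apply] at this
        rw [mulLoc_apply, mulLoc_apply, ← this, add_sub_cancel_left]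
      rw [h]
      exact mem_CP.1 hε x
    rw [show c = b + (c - b) by abel]
    exact add_mem hb (CP_le_Bc _ hcb)
  have hker : ∀ (e : ℤ) (F : Submodule B (Cc ι B V p)),
      Zc (ι := ι) D (addMulX k D E) (e + 1) p ≤ F ⊔ Bc D (addMulX k D E) (e + 1) p →
      (Zc (ι := ι) D E e (p + 1) ⊓ (Bc D E (e + 1) (p + 1)).comap (mulC B V k (p + 1))).map
        (mulC B V k (p + 1)) ≤ F.map (dd B V p) ⊔ Q' e := by
    intro e F hF
    rintro _ ⟨c, ⟨hc, hcX⟩, rfl⟩
    obtain ⟨_, ⟨h, hh, rfl⟩, ε, hε, hhε⟩ := Submodule.mem_sup.1 (show mulC B V k (p + 1) c ∈ _ from hcX)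
    have hsplit : ∀ (q : ℕ) (z : Cc ι B V q), z ∈ CP (addMulX k D E) (e + 1) q →
        z ∈ (CP D e q).map (mulC B V k q) ⊔ CP E (e + 1) q := fun q z hz => by
      choose a ha b hb hab using fun x => Submodule.mem_sup.1 (part_addMulX_le k e _ (mem_CP.1 hz x))
      choose a' ha' haa' using ha
      refine Submodule.mem_sup.2 ⟨mulC B V k q a', ⟨a', mem_CP.2 ha', rfl⟩, b, mem_CP.2 hb, ?_⟩
      funext x
      rw [Pi.add_apply, mulC_apply, ← hab x, ← haa' x, mulLoc_apply]
    have hhZ : h ∈ Zc D (addMulX k D E) (e + 1) p := by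
      refine ⟨hh, mem_CP.2 fun x => ?_⟩
      have hmem : ∀ {z : Loc B V (img x)}, z ∈ Part D e (img x) →
          mulLoc B V k _ z ∈ Part (addMulX k D E) (e + 1) (img x) := fun {z} hz => by
        refine part_le (P := (Part (addMulX k D E) (e + 1) (img x)).comap (mulLoc B V k _))
          (fun z α d a hz => Rep.mem (α := α) (d := d + 1) (a := (X k : MvPolynomial ι B) • a)
            ⟨hz.1, Submodule.mem_sup_left ⟨a, hz.2.1, rfl⟩, by have := hz.2.2.1; omega, ?_⟩) hz
        rw [mulLoc_apply, smul_comm, hz.2.2.2, map_smul]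
      have hEle : ∀ d, E d ≤ addMulX k D E d := fun d => by
        cases d with
        | zero => exact le_rfl
        | succ d => exact le_sup_right
      have e₁ : dd B V p h x = mulLoc B V k _ (c x) - ε x := by
        have := congrFun hhε x
        rw [Pi.add_apply, mulC_apply] at this
        rw [mulLoc_apply, ← this, add_sub_cancel_right]
      rw [e₁]
      exact sub_mem (hmem (mem_CP.1 hc.1 x)) (part_mono hEle _ _ (mem_CP.1 hε x))
    rw [← hhε]
    refine add_mem ?_ (Submodule.mem_sup_right (Submodule.mem_sup_right hε))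
    obtain ⟨f, hf, b, hb, rfl⟩ := Submodule.mem_sup.1 (hF hhZ)
    rw [map_add]
    refine add_mem (Submodule.mem_sup_left ⟨f, hf, rfl⟩) (Submodule.mem_sup_right ?_)
    have hpush : ∀ z, z ∈ CP (ι := ι) (addMulX k D E) (e + 1) p → dd B V p z ∈ Q' e := fun z hz => by
      obtain ⟨_, ⟨a, ha, rfl⟩, b, hb, rfl⟩ := Submodule.mem_sup.1 (hsplit p z hz)
      rw [map_add, ← mulC_dd]
      exact Submodule.add_mem_sup ⟨_, Submodule.mem_sup_left ⟨a, ha, rfl⟩, rfl⟩ (dd_mem hb)
    cases p with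
    | zero => exact hpush b hb
    | succ p =>
      obtain ⟨_, ⟨t, ht, rfl⟩, η, hη, rfl⟩ := Submodule.mem_sup.1 hb
      rw [map_add, show dd B V (p + 1) (dd B V p t) = 0 from dd_dd t, zero_add]
      exact hpush η hη
  obtain ⟨e₀, he₀⟩ := (hbar p).2
  have hvan : ∀ e, e₀ ≤ e → Van (ι := ι) D E e (p + 1) := by
    intro e he c hc
    obtain ⟨m, hm⟩ := exists_pow_mem_bc hD hE k hc
    induction m generalizing e c with
    | zero => simpa using hm
    | succ m ih =>
      have hXc : mulC B V k (p + 1) c ∈ Bc D E (e + 1) (p + 1) := by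
        refine ih (e + 1) (by omega) (hX e c hc) ?_
        rw [← Module.End.mul_apply, ← pow_succ]
        rwa [show e + 1 + (m : ℤ) = e + ((m + 1 : ℕ) : ℤ) by push_cast; ring]
      refine hsat e c hc ?_
      have := hker e ⊥ ((he₀ (e + 1) (by omega)).trans le_sup_right) ⟨c, ⟨hc, hXc⟩, rfl⟩
      simpa using this
  refine ⟨fun e => ?_, e₀, fun e he => hvan e he⟩
  have hdesc : ∀ (j : ℕ) (e : ℤ), e₀ ≤ e + j → Fin' (ι := ι) D E e (p + 1) := by
    intro j
    induction j with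
    | zero => exact fun e he => (hvan e (by simpa using he)).fin
    | succ j ih =>
      intro e he
      obtain ⟨F, hF, hle⟩ := ih (e + 1) (by push_cast at he ⊢; omega)
      obtain ⟨F₁, hF₁, -, hle₁⟩ := fin_pullback (mulC B V k (p + 1)) (Zc (ι := ι) D E e (p + 1))
        (Bc D E (e + 1) (p + 1)) F hF
        (by rintro _ ⟨c, hc, rfl⟩; exact hle (hX e c hc))
      obtain ⟨Fb, hFb, hbar'⟩ := (hbar p).1 (e + 1)
      obtain ⟨F₂, hF₂, -, hle₂⟩ := fin_pullback (mulC B V k (p + 1)) _ (Q' e) (Fb.map (dd B V p))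
        (hFb.map _) (hker e Fb hbar')
      refine ⟨F₁ ⊔ F₂, hF₁.sup hF₂, hle₁.trans (sup_le (le_sup_left.trans le_sup_left) ?_)⟩
      refine hle₂.trans (sup_le (le_sup_right.trans le_sup_left) ?_)
      rintro c ⟨⟨hc, -⟩, hc'⟩
      exact Submodule.mem_sup_right (hsat e c hc hc')
  exact hdesc (e₀ - e).toNat e (by omega)

lemma nice_of_kills {D E : ℕ → Submodule B V} (hD : GoodFam (ι := ι) D)
    (h : ∀ (i : ι) d, ∀ a ∈ D d, (X i : MvPolynomial ι B) • a ∈ E (d + 1)) (p : ℕ) :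
    Nice (ι := ι) D E p := by
  cases p with
  | succ p =>
    have h' : ∀ e, Van (ι := ι) D E e (p + 1) := fun e c hc =>
      CP_le_Bc _ (mem_CP.2 fun x => part_le_of_kills
        (Finset.mem_image_of_mem x (Finset.mem_univ 0)) (h (x 0)) e (mem_CP.1 hc.1 x))
    exact ⟨fun e => (h' e).fin, 0, fun e _ => h' e⟩
  | zero =>
    have himg : ∀ x : Fin 0 → ι, img x = ∅ := fun x => by simp [CSys.img]
    refine ⟨fun e => ?_, ?_⟩
    · refine ⟨CP D e 0, ?_, inf_le_left.trans le_sup_left⟩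
      let ψ : V →ₗ[B] Cc ι B V 0 :=
        LinearMap.pi fun x => (toLoc B V (img x)).restrictScalars B
      have hle : CP (ι := ι) D e 0 ≤ (D e.toNat).map ψ := fun c hc => by
        obtain ⟨a, ha, he⟩ := part_le_map (himg finZeroElim) e (mem_CP.1 hc finZeroElim)
        refine ⟨a, ha, funext fun x => ?_⟩
        obtain rfl : x = finZeroElim := funext fun i => i.elim0
        exact he
      have := isNoetherian_of_fg_of_noetherian _ ((hD.fg e.toNat).map ψ)
      have h' := (IsNoetherian.noetherian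
        ((CP (ι := ι) D e 0).comap ((D e.toNat).map ψ).subtype)).map ((D e.toNat).map ψ).subtype
      rwa [Submodule.map_comap_subtype, inf_eq_right.2 hle] at h'
    · obtain ⟨d₀, hd₀⟩ := hD.gen
      refine ⟨d₀ + 1, fun e he c hc => mem_CP.2 fun x => ?_⟩
      obtain ⟨n, hn⟩ : ∃ n : ℕ, e = ((n + 1 : ℕ) : ℤ) := ⟨(e - 1).toNat, by omega⟩
      subst hn
      obtain ⟨a, ha, hax⟩ := part_le_map (himg x) _ (mem_CP.1 hc.1 x)
      have haE : a ∈ E (n + 1) := by
        have hle : spanX (ι := ι) (D n) ≤ E (n + 1) :=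
          iSup_le fun i => by rintro _ ⟨b, hb, rfl⟩; exact h i n b hb
        refine hle (hd₀ n (by omega) ?_)
        simpa using ha
      rw [← hax]
      exact toLoc_mem_part haE _

end Groth.CohFin
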