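import Groth.Agent.CohFin.Linear
import Groth.Agent.CohFin.AcycEmb
import Groth.Agent.CohFin.GradedCech
import Groth.Agent.CohBase.CechScheme
import Groth.Agent.QCohMod.Category
import Groth.Agent.CohTwo.Glue

/-!
Finiteness of cohomology from finiteness of Čech cohomology, for a covering with affine
intersections.
-/

universe u

open CategoryTheory CategoryTheory.Limits AlgebraicGeometry TopologicalSpace Opposite

namespace Groth.CohFin

open Groth.CohBase

variable {A : Type u} [CommRing A] {X : Scheme.{u}} (f : X ⟶ Spec (CommRingCat.of A))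

/-- The ring map to the functions on an open. -/
noncomputable def secHom (V : X.Opens) : A →+* Γ(X, V) :=
  (QCohMod.resFun X le_top).comp (Coh.toGlobal f)

lemma resFun_secHom {V W : X.Opens} (h : V ≤ W) (a : A) :
    QCohMod.resFun X h (secHom f W a) = secHom f V a :=
  QCohMod.resFun_resFun _ _ _

/-- Sections of a module, as an `A`-module. -/
def SecA (_f : X ⟶ Spec (CommRingCat.of A)) (M : X.Modules) (V : X.Opens) : Type u := Γ(M, V)

noncomputable instance (M : X.Modules) (V : X.Opens) : AddCommGroup (SecA f M V) :=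
  inferInstanceAs (AddCommGroup Γ(M, V))

noncomputable instance (M : X.Modules) (V : X.Opens) : Module A (SecA f M V) :=
  Module.compHom Γ(M, V) (secHom f V)

lemma secA_smul {M : X.Modules} {V : X.Opens} (a : A) (s : SecA f M V) :
    a • s = (secHom f V a • (show Γ(M, V) from s) : Γ(M, V)) := rfl

/-- Restriction, linearly. -/
noncomputable def resA (M : X.Modules) {V W : X.Opens} (h : V ≤ W) : SecA f M W →ₗ[A] SecA f M V where
  toFun := QCohMod.res M h
  map_add' := map_add (QCohMod.res M h)
  map_smul' a s := (QCohMod.res_smul M h (secHom f W a) (show Γ(M, W) from s)).trans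
      (congrArg (fun r : Γ(X, V) => r • QCohMod.res M h (show Γ(M, W) from s)) (resFun_secHom f h a))

/-- A morphism on sections, linearly. -/
noncomputable def appA {M N : X.Modules} (φ : M ⟶ N) (V : X.Opens) : SecA f M V →ₗ[A] SecA f N V where
  toFun := φ.app V
  map_add' := map_add (φ.app V).hom
  map_smul' a s := φ.app_smul (U := V) (secHom f V a) s

variable {ι : Type u} (U : ι → X.Opens)

/-- Čech cochains, as an `A`-module. -/
abbrev CochA (M : X.Modules) (q : ℕ) : Type u :=
  ∀ x : Fin (q + 1) → ι, SecA f M (inter (X := X.toTopCat) U x)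

/-- The Čech differential, linearly. -/
noncomputable def dA (M : X.Modules) (q : ℕ) : CochA f U M q →ₗ[A] CochA f U M (q + 1) :=
  LinearMap.pi fun x => ∑ i : Fin (q + 2), (-1 : ℤ) ^ (i : ℕ) •
    (resA f M (inter_comp (X := X.toTopCat) U x i.succAbove)).comp
      (LinearMap.proj (x ∘ i.succAbove))

lemma dA_apply (M : X.Modules) {q : ℕ} (c : CochA f U M q) (x : Fin (q + 2) → ι) :
    dA f U M q c x = ∑ i : Fin (q + 2), (-1 : ℤ) ^ (i : ℕ) •
      resA f M (inter_comp (X := X.toTopCat) U x i.succAbove) (c (x ∘ i.succAbove)) := by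
  simp only [dA, LinearMap.pi_apply, LinearMap.coe_sum, Finset.sum_apply, LinearMap.smul_apply,
    LinearMap.comp_apply, LinearMap.proj_apply]

lemma dA_eq (M : X.Modules) {q : ℕ} (c : CochA f U M q) :
    dA f U M q c = dCoch (X := X.toTopCat) U M.presheaf q c := by
  funext x
  exact dA_apply f U M c x

lemma dA_dA (M : X.Modules) {q : ℕ} (c : CochA f U M q) : dA f U M (q + 1) (dA f U M q c) = 0 := by
  rw [dA_eq, dA_eq]
  exact dCoch_dCoch (X := X.toTopCat) U M.presheaf (n := q) c

/-- The map on cochains of a morphism. -/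
noncomputable def mapA {M N : X.Modules} (φ : M ⟶ N) (q : ℕ) : CochA f U M q →ₗ[A] CochA f U N q :=
  LinearMap.pi fun x => (appA f φ _).comp (LinearMap.proj x)

lemma mapA_apply {M N : X.Modules} (φ : M ⟶ N) {q : ℕ} (c : CochA f U M q) (x : Fin (q + 1) → ι) :
    mapA f U φ q c x = appA f φ _ (c x) := rfl

lemma mapA_dA {M N : X.Modules} (φ : M ⟶ N) {q : ℕ} (c : CochA f U M q) :
    mapA f U φ (q + 1) (dA f U M q c) = dA f U N q (mapA f U φ q c) := by
  funext x
  rw [mapA_apply, dA_apply, dA_apply, map_sum]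
  refine Finset.sum_congr rfl fun i _ => ?_
  rw [map_zsmul]
  congr 1
  exact (QCohMod.res_app φ _ _).symm

/-- Čech coboundaries. -/
noncomputable def BdA (M : X.Modules) : ∀ q, Submodule A (CochA f U M q)
  | 0 => ⊥
  | q + 1 => LinearMap.range (dA f U M q)

/-- Čech cohomology is finite. -/
def CechFinA (M : X.Modules) (q : ℕ) : Prop :=
  ∃ F : Submodule A (CochA f U M q), F.FG ∧ LinearMap.ker (dA f U M q) ≤ F ⊔ BdA f U M q

/-- The cochain of a global section. -/
noncomputable def augA (M : X.Modules) : SecA f M ⊤ →ₗ[A] CochA f U M 0 :=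
  LinearMap.pi fun _ => resA f M le_top

lemma augA_apply (M : X.Modules) (s : SecA f M ⊤) (x : Fin 1 → ι) :
    augA f U M s x = resA f M le_top s := rfl

lemma dA_augA (M : X.Modules) (s : SecA f M ⊤) : dA f U M 0 (augA f U M s) = 0 := by
  funext x
  rw [dA_apply, Fin.sum_univ_two]
  simp only [augA_apply, Fin.val_zero, Fin.val_one, pow_zero, pow_one, one_smul, neg_one_smul,
    Pi.zero_apply]
  rw [add_neg_eq_zero]
  exact (QCohMod.res_res M _ _ _).trans (QCohMod.res_res M _ _ _).symm

variable (hcov : ⨆ i, U i = ⊤)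
include hcov

lemma augA_injective (M : X.Modules) : Function.Injective (augA f U M) := by
  intro s t h
  refine Groth.CohTwo.eq_of_local M _ _ fun x _ => ?_
  obtain ⟨i, hi⟩ := Opens.mem_iSup.1 (hcov.ge (show x ∈ (⊤ : X.Opens) from trivial))
  refine ⟨inter (X := X.toTopCat) U (fun _ : Fin 1 => i), le_top, ?_, congrFun h (fun _ => i)⟩
  rw [inter_one]
  exact hi

lemma exists_augA_eq (M : X.Modules) {c : CochA f U M 0} (hc : dA f U M 0 c = 0) :
    ∃ s, augA f U M s = c := by
  let sf : ∀ i, (M.presheaf.obj (op (U i)) : Type u) := fun i =>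
    QCohMod.res M (inter_one (X := X.toTopCat) U (fun _ : Fin 1 => i)).ge (c fun _ => i)
  have key : ∀ i j, QCohMod.res M (inf_le_left : U i ⊓ U j ≤ U i) (sf i) =
      QCohMod.res M inf_le_right (sf j) := by
    intro i j
    have h := congrFun hc (![i, j] : Fin 2 → ι)
    rw [dA_apply, Fin.sum_univ_two] at h
    simp only [Fin.val_zero, Fin.val_one, pow_zero, pow_one, one_smul, neg_one_smul,
      Pi.zero_apply] at h
    rw [add_neg_eq_zero] at h
    have hle : U i ⊓ U j ≤ inter (X := X.toTopCat) U (![i, j] : Fin 2 → ι) := le_iInf fun a => by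
      fin_cases a
      · exact inf_le_left
      · exact inf_le_right
    have h' := congrArg (fun t => QCohMod.res M hle t) h
    have e0 : ((![i, j] : Fin 2 → ι) ∘ (0 : Fin 2).succAbove) = fun _ => j := by
      funext a; fin_cases a; rfl
    have e1 : ((![i, j] : Fin 2 → ι) ∘ (1 : Fin 2).succAbove) = fun _ => i := by
      funext a; fin_cases a; rfl
    have hres : ∀ {x y : Fin 1 → ι} (_ : x = y) (hx : U i ⊓ U j ≤ inter (X := X.toTopCat) U x)
        (hy : U i ⊓ U j ≤ inter (X := X.toTopCat) U y),
        QCohMod.res M hx (c x) = QCohMod.res M hy (c y) := by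
      rintro x y rfl hx hy; rfl
    have hi : U i ⊓ U j ≤ inter (X := X.toTopCat) U (fun _ : Fin 1 => i) :=
      inf_le_left.trans (inter_one (X := X.toTopCat) U (fun _ : Fin 1 => i)).ge
    have hj : U i ⊓ U j ≤ inter (X := X.toTopCat) U (fun _ : Fin 1 => j) :=
      inf_le_right.trans (inter_one (X := X.toTopCat) U (fun _ : Fin 1 => j)).ge
    refine (QCohMod.res_res M _ _ _).trans (Eq.trans ?_ (QCohMod.res_res M _ _ _).symm)
    refine (hres e1 (hle.trans (inter_comp _ _ _)) hi).symm.trans ?_
    refine Eq.trans ?_ (hres e0 (hle.trans (inter_comp _ _ _)) hj)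
    exact (QCohMod.res_res M _ _ _).symm.trans (h'.symm.trans (QCohMod.res_res M _ _ _))
  obtain ⟨s, hs, -⟩ := TopCat.Sheaf.existsUnique_gluing' ⟨M.presheaf, M.isSheaf⟩ U ⊤
    (fun i => homOfLE le_top) hcov.ge sf key
  refine ⟨s, funext fun x => ?_⟩
  have hx : x = fun _ => x 0 := funext fun a => congrArg x (Fin.fin_one_eq_zero a)
  rw [augA_apply]
  have hle : inter (X := X.toTopCat) U x ≤ U (x 0) := inter_le _ x 0
  refine ((QCohMod.res_res M le_top hle s).symm.trans (congrArg (QCohMod.res M hle) (hs (x 0)))).trans ?_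
  refine (QCohMod.res_res M _ _ _).trans ?_
  have : ∀ {y : Fin 1 → ι} (_ : y = x) (h : inter (X := X.toTopCat) U x ≤ inter (X := X.toTopCat) U y),
      QCohMod.res M h (c y) = c x := by
    rintro y rfl h; exact QCohMod.res_self M _
  exact this hx.symm _

variable (hU : ∀ {n : ℕ} (x : Fin (n + 1) → ι), IsAffineOpen (inter (X := X.toTopCat) U x))
include hU

lemma exists_dA_eq (I : X.Modules) [I.IsQuasicoherent] {q : ℕ}
    (h : Subsingleton (Coh.HH X I (q + 1))) {c : CochA f U I (q + 1)}
    (hc : dA f U I (q + 1) c = 0) : ∃ t, dA f U I q t = c := by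
  obtain ⟨e⟩ := nonempty_cech_equiv_H U hcov hU I (q + 1)
  haveI : Subsingleton (Sheaf.H (abSheaf I) (q + 1) : Type u) := h
  have hz : IsZero ((cechCx (X := X.toTopCat) U I.presheaf).homology (q + 1)) :=
    haveI := e.toEquiv.subsingleton
    AddCommGrpCat.isZero_of_subsingleton _
  rw [dA_eq] at hc
  obtain ⟨t, ht⟩ := (isZero_homology_iff (X := X.toTopCat) U I.presheaf q).1 hz c hc
  exact ⟨t, (dA_eq f U I (q := q) t).trans ht⟩

variable [IsNoetherianRing A] [CompactSpace X] [X.IsSeparated]

/-- Finite Čech cohomology gives finite cohomology. -/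
theorem hFin_of_cechFinA : ∀ (q : ℕ) (M : X.Modules) [M.IsQuasicoherent],
    CechFinA f U M q → HFin f M q := by
  intro q
  induction q with
  | zero =>
    intro M _ hM
    obtain ⟨F, hF, hle⟩ := hM
    change _ ≤ F ⊔ ⊥ at hle
    rw [sup_bot_eq] at hle
    haveI := isNoetherian_of_fg_of_noetherian _ hF
    let e : HA f M 0 →ₗ[A] SecA f M ⊤ :=
      { toFun := equivSections f M
        map_add' := map_add (equivSections f M)
        map_smul' := fun a x => (equivSections_smul f M a x).trans (by
          rw [secA_smul]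
          congr 1
          exact (QCohMod.resFun_self _).symm) }
    refine Module.Finite.of_injective
      (LinearMap.codRestrict F ((augA f U M).comp e) fun x => hle (dA_augA f U M _)) ?_
    intro x y h
    exact (equivSections f M).injective (augA_injective f U hcov M (congrArg Subtype.val h))
  | succ q ih =>
    intro M _ hM
    obtain ⟨emb⟩ := nonempty_acycEmb f M
    haveI := emb.mono
    haveI := emb.qcoh
    let S : ShortComplex X.Modules := ShortComplex.mk emb.ι (cokernel.π emb.ι) (cokernel.condition _)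
    have hS : S.ShortExact :=
      { exact := ShortComplex.exact_of_g_is_cokernel _ (cokernelIsCokernel emb.ι)
        mono_f := emb.mono
        epi_g := inferInstanceAs (Epi (cokernel.π emb.ι)) }
    haveI : S.X₁.IsQuasicoherent := ‹M.IsQuasicoherent›
    haveI : S.X₂.IsQuasicoherent := emb.qcoh
    haveI : S.X₃.IsQuasicoherent := inferInstanceAs (cokernel emb.ι).IsQuasicoherent
    haveI : Mono S.f := emb.mono
    haveI : Epi S.g := hS.epi_g
    have hsurj : ∀ {n : ℕ} (z : CochA f U S.X₃ n), ∃ y, mapA f U S.g n y = z := fun z => by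
      choose y hy using fun x => QCohMod.app_surjective_of_epi S.g (hU x) (z x)
      exact ⟨y, funext hy⟩
    have hex : ∀ {n : ℕ} (y : CochA f U S.X₂ n), mapA f U S.g n y = 0 →
        ∃ t, mapA f U S.f n t = y := fun y h => by
      choose t ht using fun x =>
        QCohMod.exists_app_eq_of_mono_exact hS.exact _ (y x) (congrFun h x)
      exact ⟨t, funext ht⟩
    have hinj : ∀ {n : ℕ}, Function.Injective (mapA f U S.f n) := fun {n} a b h =>
      funext fun x => QCohMod.app_injective_of_mono S.f _ (congrFun h x)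
    have hzero : ∀ {n : ℕ} (t : CochA f U S.X₁ n), mapA f U S.g n (mapA f U S.f n t) = 0 := by
      intro n t
      funext x
      change S.g.app _ (S.f.app _ (t x)) = 0
      rw [← ConcreteCategory.comp_apply, ← Scheme.Modules.Hom.comp_app, S.zero]
      rfl
    -- cochains of the middle term lifting cocycles of the quotient
    let Y : Submodule A (CochA f U S.X₂ q) :=
      LinearMap.ker ((mapA f U S.g (q + 1)).comp (dA f U S.X₂ q))
    obtain ⟨F, hF, hle⟩ := (show CechFinA f U S.X₁ (q + 1) from hM)
    have hY : Y.map (dA f U S.X₂ q) ≤ F.map (mapA f U S.f (q + 1)) ⊔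
        (LinearMap.range (dA f U S.X₁ q)).map (mapA f U S.f (q + 1)) := by
      rintro _ ⟨y, hy, rfl⟩
      obtain ⟨c, hc⟩ := hex _ hy
      have hdc : dA f U S.X₁ (q + 1) c = 0 := hinj (by rw [mapA_dA, hc, dA_dA, map_zero])
      rw [← Submodule.map_sup]
      exact ⟨c, hle hdc, hc⟩
    obtain ⟨F₁, hF₁, -, hY'⟩ := fin_pullback (dA f U S.X₂ q) Y _ _ (hF.map _) hY
    have hQ : ∀ z, dA f U S.X₃ q z = 0 → ∃ (y₁ : CochA f U S.X₂ q) (w : CochA f U S.X₂ q),
        y₁ ∈ F₁ ∧ dA f U S.X₂ q w = 0 ∧ z = mapA f U S.g q y₁ + mapA f U S.g q w := by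
      intro z hz
      obtain ⟨y, rfl⟩ := hsurj z
      have hy : y ∈ Y := by
        change mapA f U S.g (q + 1) (dA f U S.X₂ q y) = 0
        rw [mapA_dA, hz]
      obtain ⟨y₁, hy₁, y₂, ⟨-, _, ⟨t, rfl⟩, ht⟩, rfl⟩ := Submodule.mem_sup.1 (hY' hy)
      refine ⟨y₁, y₂ - mapA f U S.f q t, hy₁, ?_, ?_⟩
      · rw [map_sub, ← mapA_dA, ht, sub_self]
      · rw [map_sub, hzero, sub_zero, map_add]
    have hI : ∀ n, HFin f S.X₂ (n + 1) := fun n => hFin_of_subsingleton (emb.hX n)
    cases q with
    | zero =>
      -- degree one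
      haveI := hI 0
      let Wq : Submodule A (SecA f S.X₃ ⊤) :=
        (F₁.map (mapA f U S.g 0)).comap (augA f U S.X₃)
      let e : HA f S.X₃ 0 →ₗ[A] SecA f S.X₃ ⊤ :=
        { toFun := equivSections f S.X₃
          map_add' := map_add (equivSections f S.X₃)
          map_smul' := fun a x => (equivSections_smul f S.X₃ a x).trans (by
            rw [secA_smul]
            congr 1
            exact (QCohMod.resFun_self _).symm) }
      let P : Submodule A (HA f S.X₃ 0) := Wq.comap e
      haveI : IsNoetherian A (F₁.map (mapA f U S.g 0)) :=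
        isNoetherian_of_fg_of_noetherian _ (hF₁.map _)
      haveI : Module.Finite A P := by
        refine Module.Finite.of_injective (LinearMap.codRestrict (F₁.map (mapA f U S.g 0))
          (((augA f U S.X₃).comp e).comp P.subtype) fun x => x.2) ?_
        intro x y h
        exact Subtype.ext ((equivSections f S.X₃).injective
          (augA_injective f U hcov _ (congrArg Subtype.val h)))
      have hrange : ∀ y : HA f S.X₁ 1, ∃ x : P, delta (f := f) hS 0 x = y := by
        intro y
        obtain ⟨x, rfl⟩ := ((exact_delta_mapL (f := f) hS 0) y).1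
          (@Subsingleton.elim _ (emb.hX 0) _ _)
        obtain ⟨y₁, w, hy₁, hw, hxw⟩ := hQ (augA f U S.X₃ (e x)) (dA_augA f U _ _)
        obtain ⟨σ, hσ⟩ := exists_augA_eq f U hcov S.X₂ hw
        let x₂ : HA f S.X₂ 0 := (equivSections f S.X₂).symm σ
        refine ⟨⟨x - mapL f S.g 0 x₂, ?_⟩, ?_⟩
        · change augA f U S.X₃ (e (x - mapL f S.g 0 x₂)) ∈ F₁.map (mapA f U S.g 0)
          rw [map_sub, map_sub, hxw]
          refine ⟨y₁, hy₁, ?_⟩
          have : augA f U S.X₃ (e (mapL f S.g 0 x₂)) = mapA f U S.g 0 w := by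
            rw [← hσ]
            funext i
            change QCohMod.res S.X₃ le_top (equivSections f S.X₃ (mapL f S.g 0 x₂)) =
              S.g.app _ (QCohMod.res S.X₂ le_top σ)
            rw [equivSections_mapL, AddEquiv.apply_symm_apply]
            exact QCohMod.res_app S.g _ σ
          rw [this, add_sub_cancel_right]
        · change delta (f := f) hS 0 (x - mapL f S.g 0 x₂) = _
          rw [map_sub, ((exact_mapL_delta (f := f) hS 0) _).2 ⟨x₂, rfl⟩, sub_zero]
      exact Module.Finite.of_surjective ((delta (f := f) hS 0).comp P.subtype) hrange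
    | succ q =>
      refine hFin_first hS (ih S.X₃ ⟨F₁.map (mapA f U S.g (q + 1)), hF₁.map _, ?_⟩) (hI (q + 1))
      intro z hz
      obtain ⟨y₁, w, hy₁, hw, rfl⟩ := hQ z hz
      obtain ⟨t, rfl⟩ := exists_dA_eq f U hcov hU S.X₂ (emb.hX q) hw
      exact Submodule.add_mem_sup ⟨y₁, hy₁, rfl⟩ ⟨mapA f U S.g q t, (mapA_dA f U S.g t).symm⟩

end Groth.CohFin
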