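import Groth.Agent.CohFin.GradedMain
import Groth.Agent.CohFin.CechFin
import Groth.Agent.QCohMod.FiniteType

/-!
Coordinate atlases (as on projective space) and finiteness of the cohomology of coherent modules.
-/

universe u

open CategoryTheory CategoryTheory.Limits AlgebraicGeometry TopologicalSpace Opposite

namespace Groth.CohFin

open Groth.CohBase (inter inter_le inter_comp inter_eq_finset_inf)
open Groth.QCohMod (res resFun res_res res_self resFun_resFun resFun_self res_smul)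

/-- A covering by affine opens with coordinate functions `u i j`, playing the role of `x_i / x_j`. -/
structure Atlas {B : Type u} [CommRing B] {P : Scheme.{u}} (f : P ⟶ Spec (CommRingCat.of B))
    (ι : Type u) where
  /-- the charts -/
  U : ι → P.Opens
  cov : ⨆ i, U i = ⊤
  affine : ∀ i, IsAffineOpen (U i)
  /-- the coordinates -/
  coord : ∀ (_i j : ι), Γ(P, U j)
  inf_eq : ∀ i j, U j ⊓ U i = P.basicOpen (coord i j)
  coord_self : ∀ j, coord j j = 1
  cocycle : ∀ i j k, resFun P (inf_le_left : U j ⊓ U k ≤ U j) (coord i j) =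
    resFun P (inf_le_left : U j ⊓ U k ≤ U j) (coord k j) *
      resFun P (inf_le_right : U j ⊓ U k ≤ U k) (coord i k)
  gen : ∀ j, Subring.closure (Set.range (secHom f (U j)) ∪ Set.range fun i => coord i j) = ⊤

namespace Atlas

variable {B : Type u} [CommRing B] {P : Scheme.{u}} {f : P ⟶ Spec (CommRingCat.of B)} {ι : Type u}
  (𝒜 : Atlas f ι)

lemma cocycle' (i j k : ι) {W : P.Opens} (hj : W ≤ 𝒜.U j) (hk : W ≤ 𝒜.U k) :
    resFun P hj (𝒜.coord i j) = resFun P hj (𝒜.coord k j) * resFun P hk (𝒜.coord i k) := by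
  have h := congrArg (resFun P (le_inf hj hk)) (𝒜.cocycle i j k)
  rwa [map_mul, resFun_resFun, resFun_resFun, resFun_resFun] at h

lemma isUnit_coord {i j : ι} {W : P.Opens} (hj : W ≤ 𝒜.U j) (hi : W ≤ 𝒜.U i) :
    IsUnit (resFun P hj (𝒜.coord i j)) := by
  have hle : W ≤ P.basicOpen (𝒜.coord i j) := (le_inf hj hi).trans (𝒜.inf_eq i j).le
  rw [← resFun_resFun (h := P.basicOpen_le (𝒜.coord i j)) (h' := hle)]
  exact (P.toRingedSpace.isUnit_res_basicOpen _).map _

lemma finset_inf_eq (j : ι) (s : Finset ι) :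
    𝒜.U j ⊓ (⨅ i ∈ s, 𝒜.U i) = P.basicOpen (∏ i ∈ s, 𝒜.coord i j) := by
  classical
  induction s using Finset.induction with
  | empty => simp
  | insert i s hi ih =>
    rw [Finset.prod_insert hi, Scheme.basicOpen_mul, ← ih, ← 𝒜.inf_eq, Finset.iInf_insert]
    exact inf_inf_distrib_left _ _ _

lemma inter_eq_basicOpen [DecidableEq ι] {n : ℕ} (x : Fin (n + 1) → ι) :
    inter (X := P.toTopCat) 𝒜.U x =
      P.basicOpen (∏ i ∈ CSys.img x, 𝒜.coord i (x 0)) := by
  rw [← finset_inf_eq, inter_eq_finset_inf]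
  exact (inf_eq_right.2 (iInf₂_le_of_le (x 0) (Finset.mem_image_of_mem x (Finset.mem_univ 0)) le_rfl)).symm

lemma affine_inter {n : ℕ} (x : Fin (n + 1) → ι) :
    IsAffineOpen (inter (X := P.toTopCat) 𝒜.U x) := by
  classical
  rw [𝒜.inter_eq_basicOpen]
  exact (𝒜.affine _).basicOpen _

/-- Values of polynomials on a chart. -/
noncomputable def ev (j : ι) : MvPolynomial ι B →+* Γ(P, 𝒜.U j) :=
  MvPolynomial.eval₂Hom (secHom f (𝒜.U j)) fun i => 𝒜.coord i j

lemma ev_C (j : ι) (b : B) : 𝒜.ev j (MvPolynomial.C b) = secHom f (𝒜.U j) b :=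
  MvPolynomial.eval₂Hom_C _ _ _

lemma ev_X (j i : ι) : 𝒜.ev j (MvPolynomial.X i) = 𝒜.coord i j :=
  MvPolynomial.eval₂Hom_X' _ _ _

lemma ev_cocycle (α : ι →₀ ℕ) {j k : ι} {W : P.Opens} (hj : W ≤ 𝒜.U j) (hk : W ≤ 𝒜.U k) :
    resFun P hj (𝒜.ev j (xp α)) =
      resFun P hj (𝒜.coord k j) ^ α.degree * resFun P hk (𝒜.ev k (xp α)) := by
  induction α using Finsupp.induction with
  | zero => simp [xp]
  | single_add i n g _ _ ih =>
    rw [xp_add, map_mul, map_mul, map_mul, map_mul, ih, xp_single, map_pow, map_pow, map_pow, map_pow,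
      ev_X, ev_X, map_add, Finsupp.degree_single, pow_add, 𝒜.cocycle' i j k hj hk, mul_pow]
    ring

lemma isUnit_ev {α : ι →₀ ℕ} {k : ι} {W : P.Opens} (hk : W ≤ 𝒜.U k)
    (h : ∀ i ∈ α.support, W ≤ 𝒜.U i) : IsUnit (resFun P hk (𝒜.ev k (xp α))) := by
  classical
  induction α using Finsupp.induction with
  | zero => simp [xp]
  | single_add i n g hi hn ih =>
    have hsupp : (Finsupp.single i n + g).support = insert i g.support := by
      rw [Finsupp.support_add_eq (by simpa [Finsupp.support_single_ne_zero _ hn] using hi),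
        Finsupp.support_single_ne_zero _ hn, Finset.insert_eq]
    rw [xp_add, map_mul, map_mul, xp_single, map_pow, map_pow, ev_X]
    exact ((𝒜.isUnit_coord hk (h i (by rw [hsupp]; exact Finset.mem_insert_self _ _))).pow n).mul
      (ih fun a ha => h a (by rw [hsupp]; exact Finset.mem_insert_of_mem ha))

omit 𝒜 in
lemma xp_nsmul (n : ℕ) (β : ι →₀ ℕ) : (xp (n • β) : MvPolynomial ι B) = xp β ^ n := by
  induction n with
  | zero => simp [xp]
  | succ k ih => rw [succ_nsmul, xp_add, ih, pow_succ]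

variable (M : P.Modules)

/-- Tuples of sections on the charts. -/
def Tup : Type u := ∀ j, SecA f M (𝒜.U j)

noncomputable instance : AddCommGroup (𝒜.Tup M) :=
  inferInstanceAs (AddCommGroup (∀ j, SecA f M (𝒜.U j)))

noncomputable instance : Module B (𝒜.Tup M) :=
  inferInstanceAs (Module B (∀ j, SecA f M (𝒜.U j)))

/-- The underlying sections of a tuple. -/
def at' (a : 𝒜.Tup M) (j : ι) : Γ(M, 𝒜.U j) := a j

variable {M} in
lemma tup_ext {a b : 𝒜.Tup M} (h : ∀ j, 𝒜.at' M a j = 𝒜.at' M b j) : a = b := funext h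

noncomputable instance : Module (MvPolynomial ι B) (𝒜.Tup M) where
  smul g a := fun j => (𝒜.ev j g • 𝒜.at' M a j : Γ(M, 𝒜.U j))
  one_smul a := 𝒜.tup_ext fun j => by
    change 𝒜.ev j 1 • 𝒜.at' M a j = _
    rw [map_one, one_smul]
  mul_smul g h a := 𝒜.tup_ext fun j => by
    change 𝒜.ev j (g * h) • 𝒜.at' M a j = 𝒜.ev j g • 𝒜.ev j h • 𝒜.at' M a j
    rw [map_mul, mul_smul]
  smul_zero g := 𝒜.tup_ext fun j => by
    change 𝒜.ev j g • (0 : Γ(M, 𝒜.U j)) = 0
    rw [smul_zero]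
  smul_add g a b := 𝒜.tup_ext fun j => by
    change 𝒜.ev j g • (𝒜.at' M a j + 𝒜.at' M b j) = 𝒜.ev j g • 𝒜.at' M a j + 𝒜.ev j g • 𝒜.at' M b j
    rw [smul_add]
  add_smul g h a := 𝒜.tup_ext fun j => by
    change 𝒜.ev j (g + h) • 𝒜.at' M a j = 𝒜.ev j g • 𝒜.at' M a j + 𝒜.ev j h • 𝒜.at' M a j
    rw [map_add, add_smul]
  zero_smul a := 𝒜.tup_ext fun j => by
    change 𝒜.ev j 0 • 𝒜.at' M a j = (0 : Γ(M, 𝒜.U j))
    rw [map_zero, zero_smul]

lemma at'_smul (g : MvPolynomial ι B) (a : 𝒜.Tup M) (j : ι) :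
    𝒜.at' M (g • a) j = 𝒜.ev j g • 𝒜.at' M a j := rfl

lemma at'_bsmul (b : B) (a : 𝒜.Tup M) (j : ι) :
    𝒜.at' M (b • a) j = secHom f (𝒜.U j) b • 𝒜.at' M a j := rfl

lemma at'_add (a b : 𝒜.Tup M) (j : ι) : 𝒜.at' M (a + b) j = 𝒜.at' M a j + 𝒜.at' M b j := rfl

noncomputable instance : IsScalarTower B (MvPolynomial ι B) (𝒜.Tup M) where
  smul_assoc b g a := 𝒜.tup_ext fun j => by
    rw [at'_smul, at'_bsmul, at'_smul, MvPolynomial.smul_eq_C_mul, map_mul, ev_C, mul_smul]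

/-- Tuples which are sections of the twist of degree `d`. -/
def compat (d : ℕ) : Submodule B (𝒜.Tup M) where
  carrier := {a | ∀ (j k : ι) (W : P.Opens) (hj : W ≤ 𝒜.U j) (hk : W ≤ 𝒜.U k),
    res M hj (𝒜.at' M a j) = resFun P hj (𝒜.coord k j) ^ d • res M hk (𝒜.at' M a k)}
  zero_mem' j k W hj hk := by
    change res M hj 0 = _ • res M hk 0
    rw [map_zero, map_zero, smul_zero]
  add_mem' {a b} ha hb j k W hj hk := by
    rw [at'_add, at'_add, map_add, map_add, ha j k W hj hk, hb j k W hj hk, smul_add]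
  smul_mem' b a ha j k W hj hk := by
    rw [at'_bsmul, at'_bsmul, res_smul, res_smul, resFun_secHom, resFun_secHom, ha j k W hj hk,
      smul_smul, smul_smul, mul_comm]

lemma xp_smul_compat (α : ι →₀ ℕ) {d : ℕ} {a : 𝒜.Tup M} (ha : a ∈ 𝒜.compat M d) :
    (xp α : MvPolynomial ι B) • a ∈ 𝒜.compat M (d + α.degree) := by
  intro j k W hj hk
  rw [at'_smul, at'_smul, res_smul, res_smul, ha j k W hj hk, 𝒜.ev_cocycle α hj hk, smul_smul,
    smul_smul, pow_add]
  congr 1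
  ring

lemma xp_smul_self (k : ι) (m : ℕ) (a : 𝒜.Tup M) :
    𝒜.at' M ((xp (Finsupp.single k m) : MvPolynomial ι B) • a) k = 𝒜.at' M a k := by
  rw [at'_smul, xp_single, map_pow, ev_X, 𝒜.coord_self, one_pow, one_smul]

variable [Fintype ι] [DecidableEq ι] [M.IsQuasicoherent]

/-- A section on a chart extends to a tuple after twisting. -/
lemma exists_extend (j : ι) (s : Γ(M, 𝒜.U j)) :
    ∃ (d : ℕ) (a : 𝒜.Tup M), a ∈ 𝒜.compat M d ∧ 𝒜.at' M a j = s := by
  classical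
  have hb : ∀ k, P.basicOpen (𝒜.coord j k) ≤ 𝒜.U j := fun k =>
    (𝒜.inf_eq j k).ge.trans inf_le_right
  choose n t ht using fun k => QCohMod.exists_pow_smul_eq_res M (𝒜.affine k) (𝒜.coord j k)
    (res M (hb k) s)
  let N := Finset.univ.sup n
  let t' : ∀ k, Γ(M, 𝒜.U k) := fun k => 𝒜.coord j k ^ (N - n k) • t k
  have ht' : ∀ k (W : P.Opens) (hk : W ≤ 𝒜.U k) (hj : W ≤ 𝒜.U j),
      res M hk (t' k) = resFun P hk (𝒜.coord j k) ^ N • res M hj s := by
    intro k W hk hj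
    have hWb : W ≤ P.basicOpen (𝒜.coord j k) := (le_inf hk hj).trans (𝒜.inf_eq j k).le
    have h := congrArg (res M hWb) (ht k)
    rw [res_res, res_smul, res_res, map_pow, resFun_resFun] at h
    rw [res_smul, map_pow, h, smul_smul, ← pow_add,
      Nat.sub_add_cancel (Finset.le_sup (Finset.mem_univ k) : n k ≤ N)]
  clear_value t'
  have haff : ∀ k l, IsAffineOpen (𝒜.U k ⊓ 𝒜.U l) := fun k l => by
    rw [𝒜.inf_eq]; exact (𝒜.affine k).basicOpen _
  let δ : ∀ k l, Γ(M, 𝒜.U k ⊓ 𝒜.U l) := fun k l =>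
    res M (inf_le_left : 𝒜.U k ⊓ 𝒜.U l ≤ 𝒜.U k) (t' k) -
      resFun P (inf_le_left : 𝒜.U k ⊓ 𝒜.U l ≤ 𝒜.U k) (𝒜.coord l k) ^ N •
        res M (inf_le_right : 𝒜.U k ⊓ 𝒜.U l ≤ 𝒜.U l) (t' l)
  have hδ : ∀ k l, ∃ m : ℕ,
      resFun P (inf_le_left : 𝒜.U k ⊓ 𝒜.U l ≤ 𝒜.U k) (𝒜.coord j k) ^ m • δ k l = 0 := by
    intro k l
    refine QCohMod.exists_pow_smul_eq_zero M (haff k l) _ _ ?_
    generalize hh : P.basicOpen_le (resFun P (inf_le_left : 𝒜.U k ⊓ 𝒜.U l ≤ 𝒜.U k) (𝒜.coord j k)) = hle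
    have hWb : P.basicOpen (resFun P (inf_le_left : 𝒜.U k ⊓ 𝒜.U l ≤ 𝒜.U k) (𝒜.coord j k)) ≤ 𝒜.U j := by
      rw [Scheme.basicOpen_res]
      exact inf_le_right.trans (hb k)
    rw [map_sub, res_res, res_smul, res_res, map_pow, resFun_resFun,
      ht' k _ (hle.trans inf_le_left) hWb, ht' l _ (hle.trans inf_le_right) hWb, smul_smul,
      ← mul_pow, ← 𝒜.cocycle' j k l (hle.trans inf_le_left) (hle.trans inf_le_right), sub_self]
  choose m hm using hδ
  let K := Finset.univ.sup fun k => Finset.univ.sup (m k)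
  refine ⟨N + K, fun k => 𝒜.coord j k ^ K • t' k, ?_, ?_⟩
  · intro k l W hk hl
    change res M hk (𝒜.coord j k ^ K • t' k) = _ • res M hl (𝒜.coord j l ^ K • t' l)
    have hml : m k l ≤ K := (Finset.le_sup (Finset.mem_univ l)).trans
      (Finset.le_sup (f := fun k => Finset.univ.sup (m k)) (Finset.mem_univ k))
    have h := congrArg (fun z => resFun P hk (𝒜.coord j k) ^ (K - m k l) • res M (le_inf hk hl) z)
      (hm k l)
    simp only [map_zero, smul_zero, δ] at h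
    rw [res_smul, map_pow, resFun_resFun, map_sub, res_res, res_smul, res_res, map_pow, resFun_resFun,
      smul_smul, ← pow_add, Nat.sub_add_cancel hml, smul_sub, sub_eq_zero, smul_smul] at h
    rw [res_smul, map_pow, h, res_smul, map_pow, smul_smul, pow_add, 𝒜.cocycle' j k l hk hl, mul_pow]
    congr 1
    ring
  · change 𝒜.coord j j ^ K • t' j = s
    rw [𝒜.coord_self, one_pow, one_smul]
    have h := ht' j (𝒜.U j) le_rfl le_rfl
    rwa [res_self, res_self, resFun_self, 𝒜.coord_self, one_pow, one_smul] at h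

/-- A good family of compatible tuples filling all charts. -/
theorem exists_family (hM : CohB1.IsFT M) :
    ∃ D : ℕ → Submodule B (𝒜.Tup M), GoodFam (ι := ι) D ∧ (∀ d, D d ≤ 𝒜.compat M d) ∧
      ∀ k (s : Γ(M, 𝒜.U k)), ∃ d, ∃ a ∈ D d, 𝒜.at' M a k = s := by
  classical
  have hfin : ∀ k, ∃ G : Finset Γ(M, 𝒜.U k), Submodule.span Γ(P, 𝒜.U k) (G : Set Γ(M, 𝒜.U k)) = ⊤ :=
    fun k => (QCohMod.finite_sections M hM (𝒜.affine k)).fg_top
  choose G hG using hfin
  choose d a hac has using fun p : Σ k, G k => 𝒜.exists_extend M p.1 p.2.1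
  let d₀ := Finset.univ.sup d
  let a' : (Σ k, G k) → 𝒜.Tup M := fun p =>
    (xp (Finsupp.single p.1 (d₀ - d p)) : MvPolynomial ι B) • a p
  let D₀ : Submodule B (𝒜.Tup M) := Submodule.span B (Set.range a')
  let D : ℕ → Submodule B (𝒜.Tup M) := fun e =>
    if e < d₀ then ⊥ else (spanX (ι := ι) (B := B))^[e - d₀] D₀
  have hD0 : D d₀ = D₀ := by simp [D]
  have hDs : ∀ e, d₀ ≤ e → D (e + 1) = spanX (ι := ι) (D e) := fun e he => by
    have h1 : ¬ e + 1 < d₀ := by omega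
    have h2 : ¬ e < d₀ := by omega
    simp only [D, h1, h2, if_false]
    rw [show e + 1 - d₀ = e - d₀ + 1 by omega, Function.iterate_succ_apply']
  have hDlt : ∀ e, e < d₀ → D e = ⊥ := fun e he => by simp [D, he]
  have hfam : IsFam (ι := ι) D := fun i e b hb => by
    rcases Nat.lt_or_ge e d₀ with he | he
    · rw [hDlt e he, Submodule.mem_bot] at hb
      subst hb
      rw [smul_zero]
      exact zero_mem _
    · rw [hDs e he]
      exact mem_spanX i hb
  have hall : ∀ e, (D e).FG ∧ D e ≤ 𝒜.compat M e := by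
    intro e
    induction e with
    | zero =>
      rcases Nat.eq_zero_or_pos d₀ with h | h
      · rw [show D 0 = D₀ by rw [← hD0, h]]
        refine ⟨Submodule.fg_span (Set.finite_range _), Submodule.span_le.2 ?_⟩
        rintro _ ⟨p, rfl⟩
        have := 𝒜.xp_smul_compat M (Finsupp.single p.1 (d₀ - d p)) (hac p)
        rw [Finsupp.degree_single,
          Nat.add_sub_cancel' (Finset.le_sup (Finset.mem_univ p) : d p ≤ d₀)] at this
        exact (congrArg (𝒜.compat M) h).le this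
      · rw [hDlt 0 h]
        exact ⟨Submodule.fg_bot, bot_le⟩
    | succ e ih =>
      rcases Nat.lt_trichotomy (e + 1) d₀ with h | h | h
      · rw [hDlt _ h]
        exact ⟨Submodule.fg_bot, bot_le⟩
      · rw [h, hD0]
        refine ⟨Submodule.fg_span (Set.finite_range _), Submodule.span_le.2 ?_⟩
        rintro _ ⟨p, rfl⟩
        have := 𝒜.xp_smul_compat M (Finsupp.single p.1 (d₀ - d p)) (hac p)
        rwa [Finsupp.degree_single,
          Nat.add_sub_cancel' (Finset.le_sup (Finset.mem_univ p) : d p ≤ d₀)] at this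
      · rw [hDs e (by omega)]
        refine ⟨Submodule.fg_iSup _ fun i => ih.1.map _, iSup_le fun i => ?_⟩
        rintro _ ⟨b, hb, rfl⟩
        have := 𝒜.xp_smul_compat M (Finsupp.single i 1) (ih.2 hb)
        rwa [xp_single, pow_one, Finsupp.degree_single] at this
  refine ⟨D, ⟨hfam, fun e => (hall e).1, d₀, fun e he => (hDs e he).le⟩, fun e => (hall e).2, ?_⟩
  intro k s
  let Q : Set Γ(M, 𝒜.U k) := {s | ∃ e, ∃ b ∈ D e, 𝒜.at' M b k = s}
  have hraise : ∀ (e : ℕ) (b : 𝒜.Tup M), b ∈ D e → ∀ m : ℕ,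
      (xp (Finsupp.single k m) : MvPolynomial ι B) • b ∈ D (e + m) := fun e b hb m => by
    simpa [Finsupp.degree_single] using hfam.xp_smul (Finsupp.single k m) hb
  have hQadd : ∀ {y z}, y ∈ Q → z ∈ Q → y + z ∈ Q := by
    rintro y z ⟨e, b, hb, rfl⟩ ⟨e', b', hb', rfl⟩
    refine ⟨e + e', _, add_mem (hraise e b hb e') (add_comm e' e ▸ hraise e' b' hb' e), ?_⟩
    rw [at'_add, xp_smul_self, xp_smul_self]
  have hQzero : (0 : Γ(M, 𝒜.U k)) ∈ Q := ⟨0, 0, zero_mem _, rfl⟩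
  have hQneg : ∀ {y}, y ∈ Q → -y ∈ Q := by
    rintro y ⟨e, b, hb, rfl⟩
    exact ⟨e, -b, neg_mem hb, rfl⟩
  let R : Subring Γ(P, 𝒜.U k) :=
    { carrier := {r | ∀ y ∈ Q, r • y ∈ Q}
      one_mem' := fun y hy => by rwa [one_smul]
      mul_mem' := fun {r r'} hr hr' y hy => by rw [mul_smul]; exact hr _ (hr' y hy)
      zero_mem' := fun y hy => by rw [zero_smul]; exact hQzero
      add_mem' := fun {r r'} hr hr' y hy => by rw [add_smul]; exact hQadd (hr y hy) (hr' y hy)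
      neg_mem' := fun {r} hr y hy => by rw [neg_smul]; exact hQneg (hr y hy) }
  have hR : ∀ r, r ∈ R := fun r => by
    refine (Subring.closure_le.2 ?_ : Subring.closure _ ≤ R) ((𝒜.gen k).ge (Subring.mem_top r))
    rintro _ (⟨b, rfl⟩ | ⟨i, rfl⟩) y ⟨e, c, hc, rfl⟩
    · exact ⟨e, b • c, (D e).smul_mem b hc, 𝒜.at'_bsmul M b c k⟩
    · exact ⟨e + 1, _, hfam i e c hc, by rw [at'_smul, ev_X]⟩
  have hgen : ∀ y : Γ(M, 𝒜.U k), y ∈ Q := fun y => by
    have hy : y ∈ Submodule.span Γ(P, 𝒜.U k) (G k : Set Γ(M, 𝒜.U k)) := by rw [hG]; trivial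
    induction hy using Submodule.span_induction with
    | mem z hz =>
      refine ⟨d₀, a' ⟨k, z, hz⟩, hD0.symm ▸ Submodule.subset_span ⟨_, rfl⟩, ?_⟩
      exact (𝒜.xp_smul_self M k _ _).trans (has ⟨k, z, hz⟩)
    | zero => exact hQzero
    | add y z _ _ hy hz => exact hQadd hy hz
    | smul r y _ hy => exact hR r y hy
  exact hgen s

/-- The target of the comparison on the intersection attached to a tuple. -/
def Tgt {q : ℕ} (x : Fin (q + 1) → ι) : Type u := SecA f M (inter (X := P.toTopCat) 𝒜.U x)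

noncomputable instance {q : ℕ} (x : Fin (q + 1) → ι) : AddCommGroup (𝒜.Tgt M x) :=
  inferInstanceAs (AddCommGroup (SecA f M _))

noncomputable instance {q : ℕ} (x : Fin (q + 1) → ι) : Module B (𝒜.Tgt M x) :=
  inferInstanceAs (Module B (SecA f M _))

/-- Values of polynomials on an intersection of charts. -/
noncomputable def evx {q : ℕ} (x : Fin (q + 1) → ι) :
    MvPolynomial ι B →+* Γ(P, inter (X := P.toTopCat) 𝒜.U x) :=
  (resFun P (inter_le (X := P.toTopCat) 𝒜.U x 0)).comp (𝒜.ev (x 0))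

noncomputable instance {q : ℕ} (x : Fin (q + 1) → ι) : Module (MvPolynomial ι B) (𝒜.Tgt M x) :=
  Module.compHom Γ(M, inter (X := P.toTopCat) 𝒜.U x) (𝒜.evx x)

omit [Fintype ι] [M.IsQuasicoherent] [DecidableEq ι] in
lemma tgt_smul {q : ℕ} {x : Fin (q + 1) → ι} (g : MvPolynomial ι B) (w : 𝒜.Tgt M x) :
    g • w = (𝒜.evx x g • (show Γ(M, inter (X := P.toTopCat) 𝒜.U x) from w) :
      Γ(M, inter (X := P.toTopCat) 𝒜.U x)) := rfl

noncomputable instance {q : ℕ} (x : Fin (q + 1) → ι) :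
    IsScalarTower B (MvPolynomial ι B) (𝒜.Tgt M x) where
  smul_assoc b g w := by
    rw [tgt_smul, tgt_smul, MvPolynomial.smul_eq_C_mul, map_mul, mul_smul]
    have : 𝒜.evx x (MvPolynomial.C b) = secHom f _ b := by
      rw [evx, RingHom.comp_apply, ev_C, resFun_secHom]
    rw [this]
    rfl

/-- A tuple, read on an intersection. -/
noncomputable def psi {q : ℕ} (x : Fin (q + 1) → ι) :
    𝒜.Tup M →ₗ[MvPolynomial ι B] 𝒜.Tgt M x where
  toFun a := res M (inter_le (X := P.toTopCat) 𝒜.U x 0) (𝒜.at' M a (x 0))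
  map_add' a b := map_add (res M _) _ _
  map_smul' g a := res_smul M _ _ _

omit [Fintype ι] [M.IsQuasicoherent] in
lemma isUnit_evx {q : ℕ} (x : Fin (q + 1) → ι) {α : ι →₀ ℕ} (h : α.support ⊆ CSys.img x) :
    IsUnit (𝒜.evx x (xp α)) := by
  refine 𝒜.isUnit_ev _ fun i hi => ?_
  obtain ⟨b, -, rfl⟩ := Finset.mem_image.1 (h hi)
  exact inter_le (X := P.toTopCat) 𝒜.U x b

omit [Fintype ι] [M.IsQuasicoherent] in
lemma isUnit_tgt {q : ℕ} (x : Fin (q + 1) → ι) (g : mon (B := B) (CSys.img x)) :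
    IsUnit (algebraMap (MvPolynomial ι B) (Module.End (MvPolynomial ι B) (𝒜.Tgt M x)) g) := by
  obtain ⟨_, α, hα, rfl⟩ := g
  obtain ⟨v, hv⟩ := 𝒜.isUnit_evx x hα
  rw [Module.End.isUnit_iff]
  have hb : Function.Bijective fun w : Γ(M, inter (X := P.toTopCat) 𝒜.U x) =>
      (v : Γ(P, inter (X := P.toTopCat) 𝒜.U x)) • w := by
    refine ⟨fun a b h => ?_, fun w => ⟨(↑v⁻¹ : Γ(P, inter (X := P.toTopCat) 𝒜.U x)) • w, ?_⟩⟩
    · have h' := congrArg (fun z => (↑v⁻¹ : Γ(P, inter (X := P.toTopCat) 𝒜.U x)) • z) h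
      simp only [smul_smul, Units.inv_mul, one_smul] at h'
      exact h'
    · simp only [smul_smul, Units.mul_inv, one_smul]
  rw [hv] at hb
  exact hb

/-- The comparison map on an intersection. -/
noncomputable def phi {q : ℕ} (x : Fin (q + 1) → ι) :
    Loc B (𝒜.Tup M) (CSys.img x) →ₗ[MvPolynomial ι B] 𝒜.Tgt M x :=
  IsLocalizedModule.lift (mon (B := B) (CSys.img x)) (toLoc B (𝒜.Tup M) (CSys.img x)) (𝒜.psi M x)
    (𝒜.isUnit_tgt M x)

omit [Fintype ι] [M.IsQuasicoherent] in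
lemma phi_toLoc {q : ℕ} (x : Fin (q + 1) → ι) (a : 𝒜.Tup M) :
    𝒜.phi M x (toLoc B _ _ a) = 𝒜.psi M x a :=
  IsLocalizedModule.lift_apply (mon (B := B) (CSys.img x)) (toLoc B (𝒜.Tup M) (CSys.img x))
    (𝒜.psi M x) (𝒜.isUnit_tgt M x) a

variable {D : ℕ → Submodule B (𝒜.Tup M)} (hD : GoodFam (ι := ι) D)
  (hc : ∀ d, D d ≤ 𝒜.compat M d)

omit [Fintype ι] [M.IsQuasicoherent] in
include hc in
lemma rep_psi_smul {s : Finset ι} {z : Loc B (𝒜.Tup M) s} {α d a} (h : Rep D 0 z α d a)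
    (j k : ι) {W : P.Opens} (hj : W ≤ 𝒜.U j) (hk : W ≤ 𝒜.U k) :
    res M hj (𝒜.at' M a j) = resFun P hj (𝒜.coord k j) ^ α.degree • res M hk (𝒜.at' M a k) := by
  have hd : d = α.degree := by have := h.2.2.1; omega
  exact hd ▸ hc d h.2.1 j k W hj hk

include hD hc in
lemma phi_injective {q : ℕ} (x : Fin (q + 1) → ι) {z : Loc B (𝒜.Tup M) (CSys.img x)}
    (hz : z ∈ Part D 0 (CSys.img x)) (h0 : 𝒜.phi M x z = 0) : z = 0 := by
  rcases (mem_part hD.fam).1 hz with h | ⟨α, d, a, hr⟩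
  · exact h
  apply (xp_smul_bijective (B := B) (V := 𝒜.Tup M) hr.1).injective
  change (xp α : MvPolynomial ι B) • z = (xp α : MvPolynomial ι B) • (0 : Loc B _ _)
  rw [smul_zero, hr.2.2.2, ← map_zero (toLoc B (𝒜.Tup M) (CSys.img x)), toLoc_eq_iff]
  have ha : res M (inter_le (X := P.toTopCat) 𝒜.U x 0) (𝒜.at' M a (x 0)) = 0 := by
    have := congrArg (𝒜.phi M x) hr.2.2.2
    rw [map_smul, h0, smul_zero, phi_toLoc] at this
    exact this.symm
  let γ : ι →₀ ℕ := ∑ b : Fin (q + 1), Finsupp.single (x b) 1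
  have hγ : γ.support ⊆ CSys.img x := (Finsupp.support_finsetSum).trans (Finset.biUnion_subset.2
    fun b _ => Finsupp.support_single_subset.trans (by simp [CSys.img]))
  have hxpγ : ∀ j, 𝒜.ev j (xp γ) = ∏ b : Fin (q + 1), 𝒜.coord (x b) j := fun j => by
    have : ∀ s : Finset (Fin (q + 1)), 𝒜.ev j (xp (∑ b ∈ s, Finsupp.single (x b) 1)) =
        ∏ b ∈ s, 𝒜.coord (x b) j := fun s => by
      induction s using Finset.induction with
      | empty => simp [xp]
      | insert b s hb ih =>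
        rw [Finset.sum_insert hb, Finset.prod_insert hb, xp_add, map_mul, ih, xp_single, pow_one, ev_X]
    exact this _
  have hj : ∀ j, ∃ m : ℕ, 𝒜.ev j (xp γ) ^ m • 𝒜.at' M a j = 0 := by
    intro j
    refine QCohMod.exists_pow_smul_eq_zero M (𝒜.affine j) _ _ ?_
    have hle : ∀ b, P.basicOpen (𝒜.ev j (xp γ)) ≤ 𝒜.U (x b) := fun b => by
      rw [hxpγ, ← Finset.mul_prod_erase _ _ (Finset.mem_univ b), Scheme.basicOpen_mul]
      exact inf_le_left.trans ((𝒜.inf_eq _ _).ge.trans inf_le_right)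
    rw [𝒜.rep_psi_smul M hc hr j (x 0) (P.basicOpen_le _) (hle 0)]
    have hW : P.basicOpen (𝒜.ev j (xp γ)) ≤ inter (X := P.toTopCat) 𝒜.U x := le_iInf hle
    rw [← res_res M (inter_le (X := P.toTopCat) 𝒜.U x 0) hW, ha, map_zero, smul_zero]
  choose m hm using hj
  refine ⟨Finset.univ.sup m • γ, (Finsupp.support_smul).trans hγ, ?_⟩
  rw [smul_zero]
  refine 𝒜.tup_ext fun j => ?_
  rw [at'_smul, xp_nsmul, map_pow, ← Nat.sub_add_cancel (Finset.le_sup (Finset.mem_univ j) : m j ≤ _),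
    pow_add, mul_smul, hm, smul_zero]
  rfl

include hD hc in
lemma phi_res {q : ℕ} (x : Fin (q + 2) → ι) (i : Fin (q + 2))
    {z : Loc B (𝒜.Tup M) (CSys.img (x ∘ i.succAbove))}
    (hz : z ∈ Part D 0 (CSys.img (x ∘ i.succAbove))) :
    𝒜.phi M x (rmap (B := B) (CSys.img_comp x i.succAbove) z) =
      resA f M (inter_comp (X := P.toTopCat) 𝒜.U x i.succAbove) (𝒜.phi M (x ∘ i.succAbove) z) := by
  rcases (mem_part hD.fam).1 hz with h | ⟨α, d, a, hr⟩
  · subst h
    rw [map_zero, map_zero, map_zero]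
    exact (map_zero (resA f M (inter_comp (X := P.toTopCat) 𝒜.U x i.succAbove))).symm
  have hle := inter_comp (X := P.toTopCat) 𝒜.U x i.succAbove
  apply ((Module.End.isUnit_iff _).1
    (𝒜.isUnit_tgt M x ⟨xp α, xp_mem_mon (hr.1.trans (CSys.img_comp x i.succAbove))⟩)).injective
  change (xp α : MvPolynomial ι B) • 𝒜.phi M x (rmap (B := B) _ z) =
    (xp α : MvPolynomial ι B) • (show 𝒜.Tgt M x from _)
  rw [← map_smul, ← map_smul, hr.2.2.2, rmap_toLoc, phi_toLoc, tgt_smul]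
  change res M (inter_le (X := P.toTopCat) 𝒜.U x 0) (𝒜.at' M a (x 0)) =
    𝒜.evx x (xp α) • res M hle (show Γ(M, inter (X := P.toTopCat) 𝒜.U (x ∘ i.succAbove)) from
      𝒜.phi M (x ∘ i.succAbove) z)
  have h' := congrArg (𝒜.phi M (x ∘ i.succAbove)) hr.2.2.2
  rw [map_smul, phi_toLoc, tgt_smul] at h'
  have hev : 𝒜.evx x (xp α) = resFun P (inter_le (X := P.toTopCat) 𝒜.U x 0) (𝒜.coord ((x ∘ i.succAbove) 0) (x 0)) ^ α.degree *
      resFun P hle (𝒜.evx (x ∘ i.succAbove) (xp α)) := by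
    rw [evx, evx, RingHom.comp_apply, RingHom.comp_apply, resFun_resFun]
    exact 𝒜.ev_cocycle α (inter_le (X := P.toTopCat) 𝒜.U x 0)
      (hle.trans (inter_le (X := P.toTopCat) 𝒜.U (x ∘ i.succAbove) 0))
  rw [hev, mul_smul, ← res_smul, h', 𝒜.rep_psi_smul M hc hr (x 0) ((x ∘ i.succAbove) 0)
    (inter_le (X := P.toTopCat) 𝒜.U x 0)
    (hle.trans (inter_le (X := P.toTopCat) 𝒜.U (x ∘ i.succAbove) 0))]
  congr 1
  exact (res_res M _ _ _).symm

variable (hsurj : ∀ k (s : Γ(M, 𝒜.U k)), ∃ d, ∃ a ∈ D d, 𝒜.at' M a k = s)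

include hD hsurj in
lemma phi_surjective {q : ℕ} (x : Fin (q + 1) → ι) (w : 𝒜.Tgt M x) :
    ∃ z ∈ Part D 0 (CSys.img x), 𝒜.phi M x z = w := by
  let β : ι →₀ ℕ := ∑ i ∈ CSys.img x, Finsupp.single i 1
  have hβ : β.support ⊆ CSys.img x := (Finsupp.support_finsetSum).trans (Finset.biUnion_subset.2
    fun b hb => Finsupp.support_single_subset.trans (Finset.singleton_subset_iff.2 hb))
  have hevβ : 𝒜.ev (x 0) (xp β) = ∏ i ∈ CSys.img x, 𝒜.coord i (x 0) := by
    have : ∀ s : Finset ι, 𝒜.ev (x 0) (xp (∑ i ∈ s, Finsupp.single i 1)) =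
        ∏ i ∈ s, 𝒜.coord i (x 0) := fun s => by
      induction s using Finset.induction with
      | empty => simp [xp]
      | insert b s hb ih =>
        rw [Finset.sum_insert hb, Finset.prod_insert hb, xp_add, map_mul, ih, xp_single, pow_one, ev_X]
    exact this _
  let g := 𝒜.ev (x 0) (xp β)
  have hg : inter (X := P.toTopCat) 𝒜.U x = P.basicOpen g := by
    rw [𝒜.inter_eq_basicOpen x]
    exact congrArg (P.basicOpen ·) hevβ.symm
  obtain ⟨n, t, ht⟩ := QCohMod.exists_pow_smul_eq_res M (𝒜.affine (x 0)) g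
    (res M hg.ge (show Γ(M, inter (X := P.toTopCat) 𝒜.U x) from w))
  obtain ⟨d, a, ha, rfl⟩ := hsurj (x 0) t
  have hx0 : (Finsupp.single (x 0) d).support ⊆ CSys.img x :=
    Finsupp.support_single_subset.trans (by simp [CSys.img])
  have hnβ : (n • β).support ⊆ CSys.img x := Finsupp.support_smul.trans hβ
  have hα : (n • β + Finsupp.single (x 0) d).support ⊆ CSys.img x :=
    Finsupp.support_add.trans (Finset.union_subset hnβ hx0)
  obtain ⟨z, hz⟩ := (xp_smul_bijective (B := B) (V := 𝒜.Tup M) hα).surjective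
    (toLoc B _ _ ((xp (Finsupp.single (x 0) (n * β.degree)) : MvPolynomial ι B) • a))
  refine ⟨z, Rep.mem ⟨hα, hD.fam.xp_smul _ ha, ?_, hz⟩, ?_⟩
  · rw [Finsupp.degree_single, map_add, map_nsmul, Finsupp.degree_single, smul_eq_mul]
    omega
  apply ((Module.End.isUnit_iff _).1 (𝒜.isUnit_tgt M x ⟨_, xp_mem_mon hα⟩)).injective
  change (xp (n • β + Finsupp.single (x 0) d) : MvPolynomial ι B) • 𝒜.phi M x z =
    (xp (n • β + Finsupp.single (x 0) d) : MvPolynomial ι B) • w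
  rw [← map_smul, show (xp (n • β + Finsupp.single (x 0) d) : MvPolynomial ι B) • z = _ from hz,
    phi_toLoc, tgt_smul]
  change res M _ (𝒜.at' M (_ • a) (x 0)) = _
  rw [xp_smul_self]
  have hev : 𝒜.ev (x 0) (xp (n • β + Finsupp.single (x 0) d)) = g ^ n := by
    rw [xp_add, map_mul, xp_single, map_pow, ev_X, 𝒜.coord_self, one_pow, mul_one, xp_nsmul, map_pow]
  have h := congrArg (res M hg.le) ht
  rw [res_res, res_smul, res_res, map_pow, resFun_resFun] at h
  rw [evx, RingHom.comp_apply, hev, map_pow]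
  refine h.trans ?_
  congr 1
  exact res_self M _

/-- The comparison map on cochains. -/
noncomputable def phiC (q : ℕ) : Cc ι B (𝒜.Tup M) (q + 1) →ₗ[B] CochA f 𝒜.U M q :=
  LinearMap.pi fun x => ((𝒜.phi M x).restrictScalars B).comp (LinearMap.proj x)

omit [Fintype ι] [M.IsQuasicoherent] in
lemma phiC_apply {q : ℕ} (c : Cc ι B (𝒜.Tup M) (q + 1)) (x : Fin (q + 1) → ι) :
    𝒜.phiC M q c x = 𝒜.phi M x (c x) := rfl

include hD hc in
lemma phiC_dd {q : ℕ} {c : Cc ι B (𝒜.Tup M) (q + 1)} (hcP : c ∈ CP D 0 (q + 1)) :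
    𝒜.phiC M (q + 1) (dd B _ (q + 1) c) = dA f 𝒜.U M q (𝒜.phiC M q c) := by
  funext x
  rw [phiC_apply, dd_apply, dA_apply, map_sum]
  refine Finset.sum_congr rfl fun i _ => ?_
  rw [map_zsmul, 𝒜.phi_res M hD hc x i (mem_CP.1 hcP _)]
  rfl

include hD hc hsurj in
lemma cechFinA [IsNoetherianRing B] (q : ℕ) : CechFinA f 𝒜.U M q := by
  obtain ⟨F, hF, hle⟩ := fin_zero_degree hD (q + 1)
  have hbot : ∀ (s : Finset ι), Part (fun _ => (⊥ : Submodule B (𝒜.Tup M))) 0 s = ⊥ := fun s =>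
    le_bot_iff.1 (part_le fun z α d a hr => by
      rw [Submodule.mem_bot]
      apply (xp_smul_bijective (B := B) (V := 𝒜.Tup M) hr.1).injective
      change (xp α : MvPolynomial ι B) • z = _
      rw [hr.2.2.2, (Submodule.mem_bot B).1 hr.2.1, map_zero]
      exact (smul_zero _).symm)
  have hCP : ∀ p, CP (ι := ι) (fun _ => (⊥ : Submodule B (𝒜.Tup M))) 0 p = ⊥ := fun p =>
    le_bot_iff.1 fun c hc => funext fun x => by
      have := mem_CP.1 hc x
      rwa [hbot, Submodule.mem_bot] at this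
  have hC0 : ∃ C : Submodule B (Cc ι B (𝒜.Tup M) 0), C.FG ∧ CP D 0 0 ≤ C := by
    refine ⟨(D 0).map (LinearMap.pi fun x => (toLoc B _ (CSys.img x)).restrictScalars B),
      (hD.fg 0).map _, fun c hc => ?_⟩
    obtain ⟨a, ha, he⟩ := part_le_map (by simp [CSys.img]) 0 (mem_CP.1 hc finZeroElim)
    refine ⟨a, by simpa using ha, funext fun x => ?_⟩
    obtain rfl : x = finZeroElim := funext fun b => b.elim0
    exact he
  obtain ⟨C, hC, hCle⟩ := hC0
  refine ⟨(match q with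
    | 0 => F.map (𝒜.phiC M 0) ⊔ (C.map (dd B _ 0)).map (𝒜.phiC M 0)
    | q + 1 => F.map (𝒜.phiC M (q + 1))), ?_, ?_⟩
  · cases q with
    | zero => exact (hF.map _).sup ((hC.map _).map _)
    | succ q => exact hF.map _
  intro w hw
  choose c hcP hcw using fun x => 𝒜.phi_surjective M hD hsurj x (w x)
  have hcCP : c ∈ CP D 0 (q + 1) := mem_CP.2 hcP
  have hwc : 𝒜.phiC M q c = w := funext hcw
  have hcZ : c ∈ Zc D (fun _ => ⊥) 0 (q + 1) := by
    refine ⟨hcCP, ?_⟩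
    change dd B _ (q + 1) c ∈ CP _ 0 (q + 1 + 1)
    rw [hCP, Submodule.mem_bot]
    funext x
    refine 𝒜.phi_injective M hD hc x (mem_CP.1 (dd_mem hcCP) x) ?_
    rw [← phiC_apply, 𝒜.phiC_dd M hD hc hcCP, hwc]
    exact congrFun (LinearMap.mem_ker.1 hw) x
  obtain ⟨φ, hφ, b, hb, rfl⟩ := Submodule.mem_sup.1 (hle hcZ)
  obtain ⟨_, ⟨h, hh, rfl⟩, η, hη, rfl⟩ := Submodule.mem_sup.1 hb
  rw [hCP, Submodule.mem_bot] at hη
  subst hη
  rw [add_zero, map_add] at hwc
  rw [← hwc]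
  cases q with
  | zero =>
    exact Submodule.mem_sup_left (Submodule.add_mem_sup ⟨φ, hφ, rfl⟩ ⟨_, ⟨h, hCle hh, rfl⟩, rfl⟩)
  | succ q =>
    exact Submodule.add_mem_sup ⟨φ, hφ, rfl⟩ ⟨𝒜.phiC M q h, (𝒜.phiC_dd M hD hc hh).symm⟩

end Atlas

/-- Cohomology of coherent modules is finite on a scheme with a coordinate atlas. -/
theorem hFin_of_atlas {B : Type u} [CommRing B] [IsNoetherianRing B] {P : Scheme.{u}}
    {f : P ⟶ Spec (CommRingCat.of B)} [P.IsSeparated] {ι : Type u} [Finite ι] (𝒜 : Atlas f ι)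
    (M : P.Modules) (hM : Coh.IsCoh M) (q : ℕ) : HFin f M q := by
  classical
  haveI := Fintype.ofFinite ι
  haveI : M.IsQuasicoherent := hM.1
  haveI : CompactSpace P := by
    refine ⟨?_⟩
    have h : (⋃ i, (𝒜.U i : Set P)) = Set.univ := by
      rw [← Opens.coe_iSup, 𝒜.cov]; rfl
    rw [← h]
    exact isCompact_iUnion fun i => (𝒜.affine i).isCompact
  obtain ⟨D, hD, hc, hs⟩ := 𝒜.exists_family M hM.2
  exact hFin_of_cechFinA f 𝒜.U 𝒜.cov 𝒜.affine_inter q M (𝒜.cechFinA M hD hc hs q)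

end Groth.CohFin
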