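import Mathlib.Algebra.Module.Submodule.Ker
import Mathlib.Algebra.BigOperators.GroupWithZero.Action
import Mathlib.RingTheory.Noetherian.Basic
import Mathlib.Algebra.BigOperators.Fin
import Mathlib.Algebra.BigOperators.Pi
import Mathlib.Algebra.Module.Pi
import Mathlib.Data.Fintype.Basic

/-!
Alternating cochains of a system of modules indexed by finite subsets.
-/

universe u

namespace Groth.CohFin

variable {ι : Type u} [DecidableEq ι] (B : Type u) [CommRing B]

/-- A functor from finite subsets of `ι` to `B`-modules. -/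
structure CSys where
  /-- the modules -/
  M : Finset ι → Type u
  grp : ∀ s, AddCommGroup (M s)
  mdl : ∀ s, Module B (M s)
  /-- the transition maps -/
  r : ∀ {s t}, s ⊆ t → (M s →ₗ[B] M t)
  r_rfl : ∀ {s} (h : s ⊆ s) (z : M s), r h z = z
  r_r : ∀ {s t u} (h : s ⊆ t) (h' : t ⊆ u) (z : M s), r h' (r h z) = r (h.trans h') z

attribute [instance] CSys.grp CSys.mdl

variable {B}

namespace CSys

/-- The set of entries of a tuple. -/
abbrev img {p : ℕ} (x : Fin p → ι) : Finset ι := Finset.univ.image x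

lemma img_comp {p q : ℕ} (x : Fin q → ι) (g : Fin p → Fin q) : img (x ∘ g) ⊆ img x := fun i hi => by
  simp only [Finset.mem_image, Finset.mem_univ, true_and, Function.comp_apply] at hi ⊢
  obtain ⟨a, rfl⟩ := hi
  exact ⟨_, rfl⟩

lemma img_subset_cons {p : ℕ} (k : ι) (x : Fin p → ι) :
    img x ⊆ img (Fin.cons k x : Fin (p + 1) → ι) := fun i hi => by
  simp only [Finset.mem_image, Finset.mem_univ, true_and] at hi ⊢
  obtain ⟨a, rfl⟩ := hi
  exact ⟨a.succ, by simp⟩

lemma img_cons {p : ℕ} (k : ι) (x : Fin p → ι) :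
    img (Fin.cons k x : Fin (p + 1) → ι) = insert k (img x) := by
  ext i
  simp [Fin.exists_fin_succ, eq_comm]

variable (Φ : CSys (ι := ι) B)

/-- Cochains on `p`-tuples. -/
abbrev C (p : ℕ) : Type u := ∀ x : Fin p → ι, Φ.M (img x)

/-- The differential. -/
def d (p : ℕ) : Φ.C p →ₗ[B] Φ.C (p + 1) where
  toFun c x := ∑ i : Fin (p + 1), (-1 : ℤ) ^ (i : ℕ) • Φ.r (img_comp x i.succAbove) (c (x ∘ i.succAbove))
  map_add' c c' := by ext x; simp [Finset.sum_add_distrib]
  map_smul' a c := by ext x; simp [Finset.smul_sum, smul_comm a]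

lemma d_apply {p : ℕ} (c : Φ.C p) (x : Fin (p + 1) → ι) :
    Φ.d p c x = ∑ i : Fin (p + 1),
      (-1 : ℤ) ^ (i : ℕ) • Φ.r (img_comp x i.succAbove) (c (x ∘ i.succAbove)) := rfl

lemma r_congr {p : ℕ} (c : Φ.C p) {x y : Fin p → ι} (h : x = y) {s : Finset ι} (hx : img x ⊆ s)
    (hy : img y ⊆ s) : Φ.r hx (c x) = Φ.r hy (c y) := by
  subst h
  rfl

/-- The system shifted by an index. -/
def shift (k : ι) : CSys (ι := ι) B where
  M s := Φ.M (insert k s)
  grp s := Φ.grp _
  mdl s := Φ.mdl _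
  r h := Φ.r (Finset.insert_subset_insert k h)
  r_rfl _ z := Φ.r_rfl _ z
  r_r _ _ z := Φ.r_r _ _ z

/-- The cochain on `p`-tuples obtained by fixing the first entry. -/
def sh (k : ι) {p : ℕ} : Φ.C (p + 1) →ₗ[B] (Φ.shift k).C p where
  toFun c x := Φ.r (img_cons k x).le (c (Fin.cons k x))
  map_add' c c' := by ext x; exact map_add _ _ _
  map_smul' a c := by ext x; exact map_smul _ _ _

/-- The comparison with the shifted system. -/
def up (k : ι) {p : ℕ} : Φ.C p →ₗ[B] (Φ.shift k).C p where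
  toFun c x := Φ.r (Finset.subset_insert k _) (c x)
  map_add' c c' := by ext x; exact map_add _ _ _
  map_smul' a c := by ext x; exact map_smul _ _ _

lemma up_d (k : ι) {p : ℕ} (c : Φ.C p) : Φ.up k (Φ.d p c) = (Φ.shift k).d p (Φ.up k c) := by
  funext x
  change Φ.r _ (Φ.d p c x) = _
  rw [d_apply, d_apply, map_sum]
  refine Finset.sum_congr rfl fun i _ => ?_
  rw [map_zsmul]
  congr 1
  change Φ.r _ (Φ.r _ _) = Φ.r _ (Φ.r _ _)
  rw [Φ.r_r, Φ.r_r]

/-- The differential on a tuple with given first entry. -/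
lemma sh_d (k : ι) {p : ℕ} (c : Φ.C (p + 1)) :
    Φ.sh k (Φ.d (p + 1) c) = Φ.up k c - (Φ.shift k).d p (Φ.sh k c) := by
  funext x
  change Φ.r _ (Φ.d (p + 1) c (Fin.cons k x)) = _
  rw [d_apply, Fin.sum_univ_succ, map_add, map_sum, Pi.sub_apply, d_apply, sub_eq_add_neg,
    ← Finset.sum_neg_distrib]
  congr 1
  · rw [Fin.val_zero, pow_zero, one_smul, Φ.r_r]
    have h : (Fin.cons k x : Fin (p + 2) → ι) ∘ (0 : Fin (p + 2)).succAbove = x := by
      funext a
      simp
    exact Φ.r_congr c h _ _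
  · refine Finset.sum_congr rfl fun i _ => ?_
    rw [map_zsmul, Fin.val_succ, pow_succ, mul_comm, mul_smul, neg_one_smul]
    congr 1
    congr 1
    rw [Φ.r_r]
    change Φ.r _ _ = Φ.r _ (Φ.r _ (c (Fin.cons k (x ∘ i.succAbove))))
    rw [Φ.r_r]
    refine Φ.r_congr c ?_ _ _
    funext a
    cases a using Fin.cases with
    | zero => simp
    | succ a => simp

lemma ext_sh {p : ℕ} {c c' : Φ.C (p + 1)} (h : ∀ k, Φ.sh k c = Φ.sh k c') : c = c' := by
  funext y
  obtain ⟨k, x, rfl⟩ : ∃ k x, y = (Fin.cons k x : Fin (p + 1) → ι) :=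
    ⟨y 0, Fin.tail y, (Fin.cons_self_tail y).symm⟩
  have e := congrFun (h k) x
  have e' := congrArg (Φ.r (img_cons k x).ge) e
  simp only [sh, LinearMap.coe_mk, AddHom.coe_mk, Φ.r_r, Φ.r_rfl] at e'
  exact e'

/-- The differential squares to zero. -/
theorem d_d (p : ℕ) : ∀ (Φ : CSys (ι := ι) B) (c : Φ.C p), Φ.d (p + 1) (Φ.d p c) = 0 := by
  induction p with
  | zero =>
    intro Φ c
    funext y
    rw [d_apply, Fin.sum_univ_two, Pi.zero_apply, d_apply, d_apply, Fin.sum_univ_one, Fin.sum_univ_one]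
    simp only [Fin.val_zero, Fin.val_one, pow_zero, pow_one, one_smul, neg_one_smul, Φ.r_r]
    rw [Φ.r_congr c (x := (y ∘ (0 : Fin 2).succAbove) ∘ (0 : Fin 1).succAbove)
      (y := (y ∘ (1 : Fin 2).succAbove) ∘ (0 : Fin 1).succAbove) (funext fun a => a.elim0) _
      ((img_comp _ _).trans (img_comp y _)), add_neg_cancel]
  | succ p ih =>
    intro Φ c
    refine Φ.ext_sh fun k => ?_
    rw [sh_d, sh_d, map_sub, up_d, ih, sub_zero, map_zero, sub_self]

end CSys

end Groth.CohFin
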