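import Mathlib.RingTheory.Polynomial.Basic
import Mathlib.Algebra.Polynomial.Module.Basic
import Mathlib.Algebra.MvPolynomial.Eval

/-!
Graded families of submodules, generated in bounded degree.
-/

universe u

open MvPolynomial

namespace Groth.CohFin

variable {ι : Type u} {B : Type u} [CommRing B] {V : Type u} [AddCommGroup V]
  [Module (MvPolynomial ι B) V] [Module B V] [IsScalarTower B (MvPolynomial ι B) V]

/-- A graded family stable under the variables. -/
def IsFam (D : ℕ → Submodule B V) : Prop :=
  ∀ (i : ι) (d : ℕ), ∀ a ∈ D d, (X i : MvPolynomial ι B) • a ∈ D (d + 1)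

/-- Multiplication by a variable. -/
noncomputable def mulX (i : ι) : V →ₗ[B] V where
  toFun a := (X i : MvPolynomial ι B) • a
  map_add' := smul_add _
  map_smul' b a := smul_comm _ b a

lemma mulX_apply (i : ι) (a : V) : (mulX (B := B) i) a = (X i : MvPolynomial ι B) • a := rfl

/-- The products of the variables with a piece of a family. -/
noncomputable def spanX (W : Submodule B V) : Submodule B V := ⨆ i : ι, W.map (mulX (B := B) i)

lemma mem_spanX (i : ι) {W : Submodule B V} {a : V} (ha : a ∈ W) :
    (X i : MvPolynomial ι B) • a ∈ spanX (ι := ι) W :=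
  Submodule.mem_iSup_of_mem i ⟨a, ha, rfl⟩

/-- A family with finitely generated pieces, generated in bounded degree. -/
structure GoodFam (D : ℕ → Submodule B V) : Prop where
  fam : IsFam (ι := ι) D
  fg : ∀ d, (D d).FG
  gen : ∃ d₀, ∀ d ≥ d₀, D (d + 1) ≤ spanX (ι := ι) (D d)

/-- The action on `V[t]` in which each variable has degree one. -/
noncomputable def degHom : MvPolynomial ι B →+* Polynomial (MvPolynomial ι B) :=
  eval₂Hom (Polynomial.C.comp MvPolynomial.C) fun i => Polynomial.C (X i) * Polynomial.X

variable [Finite ι]

/-- Subfamilies of good families are good. -/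
theorem GoodFam.of_le [IsNoetherianRing B] {D D' : ℕ → Submodule B V} (hD : GoodFam (ι := ι) D)
    (hfam : IsFam (ι := ι) D') (hle : ∀ d, D' d ≤ D d) : GoodFam (ι := ι) D' := by
  classical
  refine ⟨hfam, fun d => ?_, ?_⟩
  · have := isNoetherian_of_fg_of_noetherian _ (hD.fg d)
    have := (IsNoetherian.noetherian ((D' d).comap (D d).subtype)).map (D d).subtype
    rwa [Submodule.map_comap_subtype, inf_eq_right.2 (hle d)] at this
  letI : Module (MvPolynomial ι B) (PolynomialModule (MvPolynomial ι B) V) :=
    Module.compHom _ (degHom (ι := ι) (B := B))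
  have hC : ∀ (b : B) (m : PolynomialModule (MvPolynomial ι B) V) (d : ℕ),
      ((C b : MvPolynomial ι B) • m).coeff d = b • m.coeff d := fun b m d => by
    change ((degHom (C b) : Polynomial (MvPolynomial ι B)) • m).coeff d = _
    simp only [degHom, eval₂Hom_C, RingHom.comp_apply]
    rw [← Polynomial.monomial_zero_left, PolynomialModule.monomial_smul_apply, if_pos (Nat.zero_le d),
      Nat.sub_zero, ← MvPolynomial.algebraMap_eq, algebraMap_smul]
  have hX : ∀ (i : ι) (m : PolynomialModule (MvPolynomial ι B) V) (d : ℕ),
      ((X i : MvPolynomial ι B) • m).coeff d =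
        if d = 0 then 0 else (X i : MvPolynomial ι B) • m.coeff (d - 1) := fun i m d => by
    change ((degHom (X i) : Polynomial (MvPolynomial ι B)) • m).coeff d = _
    simp only [degHom, eval₂Hom_X']
    rw [← Polynomial.monomial_one_one_eq_X, Polynomial.C_mul_monomial, mul_one,
      PolynomialModule.monomial_smul_apply]
    rcases d with _ | d <;> simp
  let tot : ∀ (E : ℕ → Submodule B V), IsFam (ι := ι) E →
      Submodule (MvPolynomial ι B) (PolynomialModule (MvPolynomial ι B) V) := fun E hE =>
    { carrier := {m | ∀ d, m.coeff d ∈ E d}
      zero_mem' := fun d => (E d).zero_mem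
      add_mem' := fun {a b} ha hb d => (E d).add_mem (ha d) (hb d)
      smul_mem' := fun f m hm => by
        induction f using MvPolynomial.induction_on with
        | C b => intro d; rw [hC]; exact (E d).smul_mem b (hm d)
        | add f g hf hg =>
          intro d
          rw [add_smul, PolynomialModule.coeff_add]
          exact (E d).add_mem (hf d) (hg d)
        | mul_X f i hf =>
          intro d
          rw [mul_comm f, mul_smul, hX]
          rcases d with _ | d
          · simp
          · simpa using hE i d _ (hf d) }
  obtain ⟨d₀, hd₀⟩ := hD.gen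
  choose G hG using hD.fg
  let gens : Set (PolynomialModule (MvPolynomial ι B) V) :=
    ⋃ d ∈ Finset.range (d₀ + 1), PolynomialModule.single (MvPolynomial ι B) d '' (G d : Set V)
  have hgens : gens.Finite :=
    Set.Finite.biUnion (Finset.finite_toSet _) fun d _ => (G d).finite_toSet.image _
  let G' := Submodule.span (MvPolynomial ι B) gens
  have hsingle : ∀ d, ∀ a ∈ D d, PolynomialModule.single (MvPolynomial ι B) d a ∈ G' := by
    intro d
    induction d using Nat.strong_induction_on with
    | _ d ih =>
    intro a ha
    rcases Nat.lt_or_ge d₀ d with hd | hd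
    · obtain ⟨d, rfl⟩ : ∃ d', d = d' + 1 := ⟨d - 1, by omega⟩
      refine Submodule.iSup_induction (fun i : ι => (D d).map (mulX (B := B) i))
        (motive := fun a => PolynomialModule.single (MvPolynomial ι B) (d + 1) a ∈ G')
        (hd₀ d (by omega) ha) ?_ (by rw [PolynomialModule.single_zero]; exact G'.zero_mem)
        (fun y z hy hz => by rw [PolynomialModule.single_add]; exact G'.add_mem hy hz)
      rintro i _ ⟨z, hz, rfl⟩
      have h : PolynomialModule.single (MvPolynomial ι B) (d + 1) (mulX (B := B) i z) =
          (X i : MvPolynomial ι B) • PolynomialModule.single (MvPolynomial ι B) d z := by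
        ext k
        rw [hX, PolynomialModule.coeff_single, PolynomialModule.coeff_single]
        rcases k with _ | k
        · simp
        · by_cases h : d = k <;> simp [Finsupp.single_apply, h, mulX_apply]
      rw [h]
      exact G'.smul_mem _ (ih d (Nat.lt_succ_self d) z hz)
    · rw [← hG d] at ha
      induction ha using Submodule.span_induction with
      | mem z hz =>
        exact Submodule.subset_span (Set.mem_biUnion (Finset.mem_range.2 (by omega)) ⟨z, hz, rfl⟩)
      | zero => rw [PolynomialModule.single_zero]; exact G'.zero_mem
      | add y z _ _ hy hz => rw [PolynomialModule.single_add]; exact G'.add_mem hy hz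
      | smul b z _ hz =>
        have h : PolynomialModule.single (MvPolynomial ι B) d (b • z) =
            (C b : MvPolynomial ι B) • PolynomialModule.single (MvPolynomial ι B) d z := by
          ext k
          rw [hC, PolynomialModule.coeff_single, PolynomialModule.coeff_single]
          by_cases h : d = k <;> simp [Finsupp.single_apply, h]
        rw [h]
        exact G'.smul_mem _ hz
  have hTG : tot D' hfam ≤ G' := by
    intro m hm
    have e : m = ∑ d ∈ m.coeff.support,
        PolynomialModule.single (MvPolynomial ι B) d (m.coeff d) := by
      apply PolynomialModule.coeff_injective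
      rw [PolynomialModule.coeff_sum]
      simp only [PolynomialModule.coeff_single]
      exact (Finsupp.sum_single m.coeff).symm
    rw [e]
    exact G'.sum_mem fun d _ => hsingle d _ (hle d (hm d))
  have hG' : G'.FG := Submodule.fg_span hgens
  have := isNoetherian_of_fg_of_noetherian _ hG'
  have hfg : (tot D' hfam).FG := by
    have h := (IsNoetherian.noetherian ((tot D' hfam).comap G'.subtype)).map G'.subtype
    rwa [Submodule.map_comap_subtype, inf_eq_right.2 hTG] at h
  obtain ⟨Q, hQ⟩ := hfg
  refine ⟨Q.sup fun m => m.coeff.support.sup id, fun d hd a ha => ?_⟩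
  have hmem : PolynomialModule.single (MvPolynomial ι B) (d + 1) a ∈ tot D' hfam := fun k => by
    rw [PolynomialModule.coeff_single]
    by_cases h : d + 1 = k
    · subst h; simpa using ha
    · simp [Finsupp.single_apply, h]
  rw [← hQ] at hmem
  suffices h : ∀ m ∈ Submodule.span (MvPolynomial ι B) (Q : Set (PolynomialModule (MvPolynomial ι B) V)),
      m.coeff (d + 1) ∈ spanX (ι := ι) (D' d) by simpa using h _ hmem
  intro m hm
  induction hm using Submodule.span_induction with
  | mem z hz =>
    have : z.coeff (d + 1) = 0 := by
      by_contra h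
      have h₁ : id (d + 1) ≤ z.coeff.support.sup id := Finset.le_sup (Finsupp.mem_support_iff.2 h)
      have h₂ : z.coeff.support.sup id ≤ Q.sup fun m => m.coeff.support.sup id :=
        Finset.le_sup (f := fun m : PolynomialModule (MvPolynomial ι B) V => m.coeff.support.sup id) hz
      simp only [id_eq] at h₁
      omega
    rw [this]
    exact zero_mem _
  | zero => exact zero_mem _
  | add y z _ _ hy hz =>
    rw [PolynomialModule.coeff_add]
    exact add_mem hy hz
  | smul f z hz hz' =>
    induction f using MvPolynomial.induction_on with
    | C b => rw [hC]; exact Submodule.smul_mem _ b hz'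
    | add f g hf hg => rw [add_smul, PolynomialModule.coeff_add]; exact add_mem hf hg
    | mul_X f i _ =>
      rw [mul_comm f, mul_smul, hX, if_neg (Nat.succ_ne_zero d)]
      exact mem_spanX i ((hQ ▸ Submodule.smul_mem _ f hz : f • z ∈ tot D' hfam) d)

end Groth.CohFin
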