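import Groth.Agent.CohFin.GradedCech

/-!
Devissage of a good graded family by the variables acting nontrivially.
-/

universe u

open MvPolynomial

namespace Groth.CohFin

variable {ι : Type u} [DecidableEq ι] [Finite ι] {B : Type u} [CommRing B] [IsNoetherianRing B]
  {V : Type u} [AddCommGroup V] [Module (MvPolynomial ι B) V] [Module B V]
  [IsScalarTower B (MvPolynomial ι B) V]

/-- The elements of `D` taken into `E` by the `j`-th power of a variable. -/
noncomputable def powInto (k : ι) (D E : ℕ → Submodule B V) (j d : ℕ) : Submodule B V :=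
  D d ⊓ (E (d + j)).comap (mulX (B := B) (V := V) k ^ j)

lemma mulX_pow_apply (k : ι) (j : ℕ) (a : V) :
    (mulX (B := B) (V := V) k ^ j) a = (X k : MvPolynomial ι B) ^ j • a := by
  induction j with
  | zero => simp
  | succ j ih => rw [pow_succ', Module.End.mul_apply, ih, mulX_apply, smul_smul, ← pow_succ']

lemma mem_powInto {k : ι} {D E : ℕ → Submodule B V} {j d : ℕ} {a : V} :
    a ∈ powInto k D E j d ↔ a ∈ D d ∧ (X k : MvPolynomial ι B) ^ j • a ∈ E (d + j) := by
  simp [powInto, mulX_pow_apply]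

/-- Cohomology of good families is finite, and vanishes in high degrees. -/
theorem nice_main (T : Finset ι) : ∀ (D E : ℕ → Submodule B V), GoodFam (ι := ι) D →
    GoodFam (ι := ι) E → (∀ d, E d ≤ D d) →
    (∀ i, i ∉ T → ∀ d, ∀ a ∈ D d, (X i : MvPolynomial ι B) • a ∈ E (d + 1)) →
    ∀ p, Nice (ι := ι) D E p := by
  induction T using Finset.strongInduction with
  | H T ih =>
  intro D E hD hE hED hkill p
  rcases T.eq_empty_or_nonempty with rfl | ⟨k, hk⟩
  · exact nice_of_kills hD (fun i => hkill i (by simp)) p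
  have hlt : T.erase k ⊂ T := Finset.erase_ssubset hk
  let G := powInto k D E
  have hGD : ∀ j d, G j d ≤ D d := fun j d => inf_le_left
  have hEG : ∀ j d, E d ≤ G j d := fun j d a ha => by
    refine mem_powInto.2 ⟨hED d ha, ?_⟩
    rw [← xp_single]
    simpa using hE.fam.xp_smul (Finsupp.single k j) ha
  have hGmono : ∀ d, Monotone fun j => G j d := fun d => monotone_nat_of_le_succ fun j a ha => by
    obtain ⟨ha₁, ha₂⟩ := mem_powInto.1 ha
    refine mem_powInto.2 ⟨ha₁, ?_⟩
    rw [pow_succ', mul_smul, ← add_assoc]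
    exact hE.fam k _ _ ha₂
  have hGfam : ∀ j, IsFam (ι := ι) (G j) := fun j i d a ha => by
    obtain ⟨ha₁, ha₂⟩ := mem_powInto.1 ha
    refine mem_powInto.2 ⟨hD.fam i d a ha₁, ?_⟩
    rw [smul_comm, add_right_comm]
    exact hE.fam i _ _ ha₂
  have hGgood : ∀ j, GoodFam (ι := ι) (G j) := fun j => hD.of_le (hGfam j) (hGD j)
  -- the union stabilises
  let U : ℕ → Submodule B V := fun d => ⨆ j, G j d
  have hUmem : ∀ d a, a ∈ U d ↔ ∃ j, a ∈ G j d := fun d a =>
    Submodule.mem_iSup_of_directed _ (hGmono d).directed_le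
  have hU : GoodFam (ι := ι) U := hD.of_le (fun i d a ha => by
      obtain ⟨j, hj⟩ := (hUmem d a).1 ha
      exact (hUmem _ _).2 ⟨j, hGfam j i d a hj⟩) fun d => iSup_le fun j => hGD j d
  obtain ⟨d₀, hd₀⟩ := hU.gen
  have hstab : ∀ d, ∃ j, U d ≤ G j d := fun d => by
    obtain ⟨S, hS⟩ := hU.fg d
    have : ∀ a : S, ∃ j, (a : V) ∈ G j d := fun a =>
      (hUmem d a).1 (hS ▸ Submodule.subset_span a.2)
    choose j hj using this
    refine ⟨Finset.univ.sup j, ?_⟩
    rw [← hS, Submodule.span_le]
    exact fun a ha => hGmono d (Finset.le_sup (Finset.mem_univ ⟨a, ha⟩)) (hj ⟨a, ha⟩)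
  choose J hJ using hstab
  let N := (Finset.range (d₀ + 1)).sup J
  have hUN : ∀ d, U d ≤ G N d := by
    intro d
    induction d with
    | zero => exact (hJ 0).trans (hGmono 0 (Finset.le_sup (by simp)))
    | succ d hd =>
      rcases Nat.lt_or_ge d d₀ with h | h
      · exact (hJ _).trans (hGmono _ (Finset.le_sup (by simp; omega)))
      · refine (hd₀ d h).trans (iSup_le fun i => ?_)
        rintro _ ⟨a, ha, rfl⟩
        exact hGfam N i d a (hd ha)
  have hsat : Sat k D (G N) := fun d a ha hXa => by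
    apply hUN d
    refine (hUmem d a).2 ⟨N + 1, mem_powInto.2 ⟨ha, ?_⟩⟩
    have := (mem_powInto.1 hXa).2
    rw [smul_smul, ← pow_succ] at this
    rwa [show d + 1 + N = d + (N + 1) by omega] at this
  have hchain : ∀ j p, Nice (ι := ι) (G j) E p := by
    intro j
    induction j with
    | zero =>
      refine fun p => nice_of_le (fun d a ha => ?_) p
      simpa using (mem_powInto.1 ha).2
    | succ j hj =>
      intro p
      refine Nice.trans (hEG j) (fun d => hGmono d (Nat.le_succ j)) ?_ (hj p)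
      refine ih _ hlt _ _ (hGgood (j + 1)) (hGgood j) (fun d => hGmono d (Nat.le_succ j)) ?_ p
      intro i hi d a ha
      obtain ⟨ha₁, ha₂⟩ := mem_powInto.1 ha
      by_cases hik : i = k
      · subst hik
        refine mem_powInto.2 ⟨hD.fam i d a ha₁, ?_⟩
        rw [smul_smul, ← pow_succ, show d + 1 + j = d + (j + 1) by omega]
        exact ha₂
      · refine hEG j _ (hkill i (fun h => hi (Finset.mem_erase.2 ⟨hik, h⟩)) d a ha₁)
  refine Nice.trans (hEG N) (hGD N) ?_ (hchain N p)
  have hMfam : IsFam (ι := ι) (addMulX k D (G N)) := fun i d a ha => by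
    rcases d with _ | d
    · exact Submodule.mem_sup_right (hGfam N i 0 a ha)
    · obtain ⟨_, ⟨b, hb, rfl⟩, g, hg, rfl⟩ := Submodule.mem_sup.1 ha
      rw [smul_add]
      refine Submodule.add_mem_sup ⟨(X i : MvPolynomial ι B) • b, hD.fam i d b hb, ?_⟩
        (hGfam N i _ g hg)
      rw [mulX_apply, mulX_apply, smul_comm]
  have hMle : ∀ d, addMulX k D (G N) d ≤ D d := fun d => by
    rcases d with _ | d
    · exact hGD N 0
    · refine sup_le ?_ (hGD N _)
      rintro _ ⟨b, hb, rfl⟩
      exact hD.fam k d b hb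
  have hGM : ∀ d, G N d ≤ addMulX k D (G N) d := fun d => by
    rcases d with _ | d
    · exact le_rfl
    · exact le_sup_right
  refine nice_of_sat hD.fam (hGfam N) (hGD N) hsat (fun q => ?_) p
  refine ih _ hlt _ _ hD (hD.of_le hMfam hMle) hMle (fun i hi d a ha => ?_) q
  by_cases hik : i = k
  · subst hik
    exact Submodule.mem_sup_left ⟨a, ha, rfl⟩
  · exact hGM _ (hEG N _ (hkill i (fun h => hi (Finset.mem_erase.2 ⟨hik, h⟩)) d a ha))

/-- Finiteness of the cocycles of degree zero modulo coboundaries, for a good family. -/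
theorem fin_zero_degree {D : ℕ → Submodule B V} (hD : GoodFam (ι := ι) D) (p : ℕ) :
    Fin' (ι := ι) D (fun _ => ⊥) 0 p := by
  haveI := Fintype.ofFinite ι
  have h0 : GoodFam (ι := ι) (fun _ => (⊥ : Submodule B V)) :=
    hD.of_le (fun i d a ha => by simp at ha ⊢; simp [ha]) fun d => bot_le
  exact (nice_main Finset.univ D _ hD h0 (fun d => bot_le) (fun i hi => absurd (Finset.mem_univ i) hi)
    p).1 0

end Groth.CohFin
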