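import Groth.Agent.CohFin.GradedFam
import Groth.Agent.CohFin.CechSystem
import Mathlib.Algebra.Module.LocalizedModule.Basic
import Mathlib.Data.Finsupp.Weight

/-!
Pieces of a given degree in the localisations of a module over a polynomial ring, attached to a
graded family.
-/

universe u

open MvPolynomial

namespace Groth.CohFin

variable {ι : Type u} {B : Type u} [CommRing B] {V : Type u} [AddCommGroup V]
  [Module (MvPolynomial ι B) V] [Module B V] [IsScalarTower B (MvPolynomial ι B) V]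

/-- The monomial with exponent `α`. -/
noncomputable abbrev xp (α : ι →₀ ℕ) : MvPolynomial ι B := monomial α 1

lemma xp_add (α β : ι →₀ ℕ) : (xp (α + β) : MvPolynomial ι B) = xp α * xp β := by
  simp [xp, monomial_mul]

lemma xp_single (i : ι) (n : ℕ) : (xp (Finsupp.single i n) : MvPolynomial ι B) = X i ^ n := by
  rw [xp, X_pow_eq_monomial]

/-- The monomials in the variables indexed by `s`. -/
noncomputable def mon (s : Finset ι) : Submonoid (MvPolynomial ι B) where
  carrier := {f | ∃ α : ι →₀ ℕ, α.support ⊆ s ∧ f = xp α}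
  one_mem' := ⟨0, by simp, by simp [xp]⟩
  mul_mem' := by
    classical
    rintro _ _ ⟨α, hα, rfl⟩ ⟨β, hβ, rfl⟩
    exact ⟨α + β, Finsupp.support_add.trans (Finset.union_subset hα hβ), (xp_add α β).symm⟩

variable (B V) in
/-- The localisation at the variables indexed by `s`. -/
abbrev Loc (s : Finset ι) : Type u := LocalizedModule (mon (B := B) s) V

variable (B V) in
/-- The map to the localisation. -/
noncomputable abbrev toLoc (s : Finset ι) : V →ₗ[MvPolynomial ι B] Loc B V s :=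
  LocalizedModule.mkLinearMap (mon (B := B) s) V

lemma xp_mem_mon {s : Finset ι} {α : ι →₀ ℕ} (h : α.support ⊆ s) : xp α ∈ mon (B := B) s :=
  ⟨α, h, rfl⟩

lemma isUnit_end {s t : Finset ι} (hst : s ⊆ t) (f : mon (B := B) s) :
    IsUnit (algebraMap (MvPolynomial ι B) (Module.End (MvPolynomial ι B) (Loc B V t)) f) := by
  obtain ⟨_, α, hα, rfl⟩ := f
  exact IsLocalizedModule.map_units (toLoc B V t) (⟨xp α, xp_mem_mon (hα.trans hst)⟩ : mon (B := B) t)

lemma xp_smul_bijective {s : Finset ι} {α : ι →₀ ℕ} (h : α.support ⊆ s) :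
    Function.Bijective fun z : Loc B V s => (xp α : MvPolynomial ι B) • z :=
  (Module.End.isUnit_iff _).1 (isUnit_end (V := V) (Finset.Subset.refl s) ⟨xp α, xp_mem_mon h⟩)

lemma exists_xp_smul_eq {s : Finset ι} (z : Loc B V s) :
    ∃ (α : ι →₀ ℕ) (a : V), α.support ⊆ s ∧ (xp α : MvPolynomial ι B) • z = toLoc B V s a := by
  obtain ⟨⟨a, ⟨_, α, hα, rfl⟩⟩, h⟩ := IsLocalizedModule.surj (mon (B := B) s) (toLoc B V s) z
  exact ⟨α, a, hα, h⟩

lemma toLoc_eq_iff {s : Finset ι} {a b : V} :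
    toLoc B V s a = toLoc B V s b ↔ ∃ γ : ι →₀ ℕ, γ.support ⊆ s ∧
      (xp γ : MvPolynomial ι B) • a = (xp γ : MvPolynomial ι B) • b := by
  rw [IsLocalizedModule.eq_iff_exists (mon (B := B) s) (toLoc B V s)]
  constructor
  · rintro ⟨⟨_, γ, hγ, rfl⟩, h⟩
    exact ⟨γ, hγ, h⟩
  · rintro ⟨γ, hγ, h⟩
    exact ⟨⟨xp γ, xp_mem_mon hγ⟩, h⟩

/-- The transition map between localisations. -/
noncomputable def rmap {s t : Finset ι} (h : s ⊆ t) : Loc B V s →ₗ[MvPolynomial ι B] Loc B V t :=
  IsLocalizedModule.lift (mon (B := B) s) (toLoc B V s) (toLoc B V t) (isUnit_end h)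

lemma rmap_toLoc {s t : Finset ι} (h : s ⊆ t) (a : V) :
    rmap (B := B) h (toLoc B V s a) = toLoc B V t a :=
  IsLocalizedModule.lift_apply (mon (B := B) s) (toLoc B V s) (toLoc B V t) (isUnit_end h) a

variable (B V) in
/-- The system of localisations. -/
noncomputable def locSys [DecidableEq ι] : CSys (ι := ι) B where
  M s := Loc B V s
  grp _ := inferInstance
  mdl _ := inferInstance
  r h := (rmap h).restrictScalars B
  r_rfl {s} h z := by
    obtain ⟨α, a, hα, e⟩ := exists_xp_smul_eq z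
    apply (xp_smul_bijective hα).injective
    change (xp α : MvPolynomial ι B) • rmap h z = _
    rw [← map_smul, e, rmap_toLoc]
    exact e.symm
  r_r {s t u} h h' z := by
    obtain ⟨α, a, hα, e⟩ := exists_xp_smul_eq z
    apply (xp_smul_bijective ((hα.trans h).trans h')).injective
    change (xp α : MvPolynomial ι B) • rmap h' (rmap h z) = (xp α : MvPolynomial ι B) • rmap (h.trans h') z
    rw [← map_smul, ← map_smul, ← map_smul, e, rmap_toLoc, rmap_toLoc, rmap_toLoc]

lemma IsFam.xp_smul {D : ℕ → Submodule B V} (hD : IsFam (ι := ι) D) (β : ι →₀ ℕ) :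
    ∀ {d : ℕ} {a : V}, a ∈ D d → (xp β : MvPolynomial ι B) • a ∈ D (d + β.degree) := by
  induction β using Finsupp.induction with
  | zero => intro d a ha; simpa [xp] using ha
  | single_add i n f _ _ ih =>
    intro d a ha
    rw [xp_add, mul_smul, xp_single, map_add, Finsupp.degree_single]
    have h' := ih ha
    generalize (xp f : MvPolynomial ι B) • a = b at h'
    have : ∀ m, (X i : MvPolynomial ι B) ^ m • b ∈ D (d + f.degree + m) := fun m => by
      induction m with
      | zero => simpa using h'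
      | succ m hm => rw [pow_succ', mul_smul]; exact hD i _ _ hm
    rw [show d + (n + f.degree) = d + f.degree + n by omega]
    exact this n

/-- A fraction of degree `e` with numerator in the family. -/
def Rep (D : ℕ → Submodule B V) (e : ℤ) {s : Finset ι} (z : Loc B V s) (α : ι →₀ ℕ) (d : ℕ)
    (a : V) : Prop :=
  α.support ⊆ s ∧ a ∈ D d ∧ (d : ℤ) = e + α.degree ∧
    (xp α : MvPolynomial ι B) • z = toLoc B V s a

/-- The part of degree `e` of the localisation of a family. -/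
noncomputable def Part (D : ℕ → Submodule B V) (e : ℤ) (s : Finset ι) : Submodule B (Loc B V s) :=
  Submodule.span B {z | ∃ α d a, Rep D e z α d a}

lemma Rep.mem {D : ℕ → Submodule B V} {e : ℤ} {s : Finset ι} {z : Loc B V s} {α d a}
    (h : Rep D e z α d a) : z ∈ Part D e s :=
  Submodule.subset_span ⟨α, d, a, h⟩

lemma Rep.shift {D : ℕ → Submodule B V} (hD : IsFam (ι := ι) D) {e : ℤ} {s : Finset ι}
    {z : Loc B V s} {α d a} (h : Rep D e z α d a) {β : ι →₀ ℕ} (hβ : β.support ⊆ s) :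
    Rep D e z (α + β) (d + β.degree) ((xp β : MvPolynomial ι B) • a) := by
  classical
  refine ⟨Finsupp.support_add.trans (Finset.union_subset h.1 hβ), hD.xp_smul β h.2.1, ?_, ?_⟩
  · rw [map_add, Nat.cast_add, Nat.cast_add, h.2.2.1, add_assoc]
  · rw [map_smul, ← h.2.2.2, smul_smul, ← xp_add, add_comm β α]

lemma mem_part {D : ℕ → Submodule B V} (hD : IsFam (ι := ι) D) {e : ℤ} {s : Finset ι}
    {z : Loc B V s} : z ∈ Part D e s ↔ z = 0 ∨ ∃ α d a, Rep D e z α d a := by
  refine ⟨fun hz => ?_, ?_⟩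
  · induction hz using Submodule.span_induction with
    | mem z hz => exact .inr hz
    | zero => exact .inl rfl
    | add y z _ _ hy hz =>
      rcases hy with rfl | ⟨α, d, a, hy⟩
      · simpa using hz
      rcases hz with rfl | ⟨β, d', b, hz⟩
      · rw [add_zero]; exact .inr ⟨α, d, a, hy⟩
      have h₁ := hy.shift hD hz.1
      have h₂ := hz.shift hD hy.1
      have hd : d' + α.degree = d + β.degree := by
        have := hy.2.2.1
        have := hz.2.2.1
        omega
      rw [add_comm β α, hd] at h₂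
      refine .inr ⟨_, _, _, h₁.1, (D _).add_mem h₁.2.1 h₂.2.1, h₁.2.2.1, ?_⟩
      rw [smul_add, h₁.2.2.2, h₂.2.2.2, map_add]
    | smul b z _ hz =>
      rcases hz with rfl | ⟨α, d, a, hz⟩
      · exact .inl (smul_zero b)
      · refine .inr ⟨α, d, b • a, hz.1, (D d).smul_mem b hz.2.1, hz.2.2.1, ?_⟩
        rw [smul_comm, hz.2.2.2, LinearMap.map_smul_of_tower]
  · rintro (rfl | ⟨α, d, a, h⟩)
    · exact zero_mem _
    · exact h.mem

lemma part_le {D : ℕ → Submodule B V} {e : ℤ} {s : Finset ι} {P : Submodule B (Loc B V s)}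
    (h : ∀ z α d a, Rep D e z α d a → z ∈ P) : Part D e s ≤ P :=
  Submodule.span_le.2 fun z ⟨α, d, a, hz⟩ => h z α d a hz

lemma part_mono {D E : ℕ → Submodule B V} (h : ∀ d, E d ≤ D d) (e : ℤ) (s : Finset ι) :
    Part E e s ≤ Part D e s :=
  part_le fun _ _ d _ hz => Rep.mem ⟨hz.1, h d hz.2.1, hz.2.2⟩

lemma rmap_mem_part {D : ℕ → Submodule B V} {e : ℤ} {s t : Finset ι} (h : s ⊆ t) {z : Loc B V s}
    (hz : z ∈ Part D e s) : rmap (B := B) h z ∈ Part D e t := by
  refine part_le (P := (Part D e t).comap ((rmap (B := B) (V := V) h).restrictScalars B))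
    (fun z α d a hz => Rep.mem (α := α) (d := d) (a := a) ⟨hz.1.trans h, hz.2.1, hz.2.2.1, ?_⟩) hz
  change (xp α : MvPolynomial ι B) • rmap (B := B) h z = _
  rw [← map_smul, hz.2.2.2, rmap_toLoc]

variable (B V) in
/-- Multiplication by a variable on a localisation. -/
noncomputable def mulLoc (k : ι) (s : Finset ι) : Loc B V s →ₗ[B] Loc B V s :=
  mulX (B := B) k

lemma mulLoc_apply {k : ι} {s : Finset ι} (z : Loc B V s) :
    mulLoc B V k s z = (X k : MvPolynomial ι B) • z := rfl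

lemma mulLoc_mem_part {D : ℕ → Submodule B V} (hD : IsFam (ι := ι) D) (k : ι) {e : ℤ}
    {s : Finset ι} {z : Loc B V s} (hz : z ∈ Part D e s) :
    mulLoc B V k s z ∈ Part D (e + 1) s := by
  refine part_le (P := (Part D (e + 1) s).comap (mulLoc B V k s)) (fun z α d a hz => ?_) hz
  refine Rep.mem (α := α) (d := d + 1) (a := (X k : MvPolynomial ι B) • a)
    ⟨hz.1, hD k d a hz.2.1, by have := hz.2.2.1; omega, ?_⟩
  rw [mulLoc_apply, smul_comm, hz.2.2.2, map_smul]

lemma part_le_of_kills {D E : ℕ → Submodule B V} {i : ι} {s : Finset ι} (hi : i ∈ s)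
    (h : ∀ d, ∀ a ∈ D d, (X i : MvPolynomial ι B) • a ∈ E (d + 1)) (e : ℤ) :
    Part D e s ≤ Part E e s := by
  classical
  refine part_le fun z α d a hz => Rep.mem (α := α + Finsupp.single i 1) (d := d + 1)
    (a := (X i : MvPolynomial ι B) • a) ⟨?_, h d a hz.2.1, ?_, ?_⟩
  · exact Finsupp.support_add.trans (Finset.union_subset hz.1
      (Finsupp.support_single_subset.trans (Finset.singleton_subset_iff.2 hi)))
  · rw [map_add, Finsupp.degree_single, Nat.cast_add, Nat.cast_add, hz.2.2.1]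
    omega
  · rw [xp_add, mul_comm, mul_smul, hz.2.2.2, xp_single, pow_one, map_smul]

/-- `a` lies in `E` as soon as `X k • a` does. -/
def Sat (k : ι) (D E : ℕ → Submodule B V) : Prop :=
  ∀ d, ∀ a ∈ D d, (X k : MvPolynomial ι B) • a ∈ E (d + 1) → a ∈ E d

lemma Sat.part {k : ι} {D E : ℕ → Submodule B V} (hS : Sat k D E) (hD : IsFam (ι := ι) D)
    (hE : IsFam (ι := ι) E) {e : ℤ} {s : Finset ι} {z : Loc B V s} (hz : z ∈ Part D e s)
    (hXz : mulLoc B V k s z ∈ Part E (e + 1) s) : z ∈ Part E e s := by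
  classical
  rcases (mem_part hD).1 hz with rfl | ⟨α, d, a, hz⟩
  · exact zero_mem _
  obtain ⟨β, d', b, hw⟩ : ∃ β d' b, Rep E (e + 1) (mulLoc B V k s z) β d' b := by
    rcases (mem_part hE).1 hXz with h | h
    · refine ⟨α, d + 1, 0, hz.1, zero_mem _, by have := hz.2.2.1; omega, ?_⟩
      rw [h, smul_zero, map_zero]
    · exact h
  have e₁ : toLoc B V s ((X k : MvPolynomial ι B) • (xp β : MvPolynomial ι B) • a) =
      toLoc B V s ((xp α : MvPolynomial ι B) • b) := by
    rw [map_smul, map_smul, map_smul, ← hz.2.2.2, ← hw.2.2.2, mulLoc_apply, smul_smul, smul_smul,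
      smul_smul, smul_smul]
    congr 1
    ring
  obtain ⟨γ, hγ, e₂⟩ := toLoc_eq_iff.1 e₁
  have hmem : (X k : MvPolynomial ι B) • (xp (β + γ) : MvPolynomial ι B) • a ∈
      E (d + (β + γ).degree + 1) := by
    have h : (xp γ : MvPolynomial ι B) • (xp α : MvPolynomial ι B) • b ∈
        E (d' + α.degree + γ.degree) := hE.xp_smul γ (hE.xp_smul α hw.2.1)
    rw [← e₂, smul_comm (xp γ : MvPolynomial ι B) (X k : MvPolynomial ι B), smul_smul (xp γ : MvPolynomial ι B),
      mul_comm (xp γ : MvPolynomial ι B), ← xp_add] at h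
    have hd : d' + α.degree + γ.degree = d + (β + γ).degree + 1 := by
      have := hz.2.2.1
      have := hw.2.2.1
      rw [map_add]
      omega
    rwa [hd] at h
  have hβγ : (β + γ).support ⊆ s := Finsupp.support_add.trans (Finset.union_subset hw.1 hγ)
  have h := hz.shift hD hβγ
  exact Rep.mem ⟨h.1, hS _ _ h.2.1 hmem, h.2.2⟩

lemma exists_split [DecidableEq ι] {s t : Finset ι} {k : ι} (ht : t ⊆ insert k s) {β : ι →₀ ℕ}
    (hβ : β.support ⊆ t) :
    ∃ (δ : ι →₀ ℕ) (m : ℕ), δ.support ⊆ s ∧ β = δ + Finsupp.single k m := by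
  refine ⟨β.erase k, β k, ?_, (Finsupp.erase_add_single k β).symm⟩
  rw [Finsupp.support_erase]
  intro i hi
  rw [Finset.mem_erase] at hi
  exact (Finset.mem_insert.1 (ht (hβ hi.2))).resolve_left hi.1

lemma exists_pow_smul_mem [DecidableEq ι] {D E : ℕ → Submodule B V} (hD : IsFam (ι := ι) D)
    (hE : IsFam (ι := ι) E) {e : ℤ} {s t : Finset ι} {k : ι} (h : s ⊆ t) (ht : t ⊆ insert k s)
    {z : Loc B V s} (hz : z ∈ Part D e s) (hw : rmap (B := B) h z ∈ Part E e t) :
    ∃ m : ℕ, (X k : MvPolynomial ι B) ^ m • z ∈ Part E (e + m) s := by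
  rcases (mem_part hD).1 hz with rfl | ⟨α, d, a, hz⟩
  · exact ⟨0, by simp⟩
  obtain ⟨β, d', b, hb⟩ : ∃ β d' b, Rep E e (rmap (B := B) h z) β d' b := by
    rcases (mem_part hE).1 hw with h' | h'
    · exact ⟨α, d, 0, hz.1.trans h, zero_mem _, hz.2.2.1, by rw [h', smul_zero, map_zero]⟩
    · exact h'
  have e₁ : toLoc B V t ((xp β : MvPolynomial ι B) • a) = toLoc B V t ((xp α : MvPolynomial ι B) • b) := by
    rw [map_smul, map_smul, ← hb.2.2.2, ← rmap_toLoc h a, ← hz.2.2.2, map_smul, smul_comm]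
  obtain ⟨γ, hγ, e₂⟩ := toLoc_eq_iff.1 e₁
  obtain ⟨δ, m, hδ, hδm⟩ :=
    exists_split ht (Finsupp.support_add.trans (Finset.union_subset hγ hb.1) : (γ + β).support ⊆ t)
  refine ⟨m, Rep.mem (α := α + δ) (d := d + (γ + β).degree)
    (a := (xp (γ + β) : MvPolynomial ι B) • a) ⟨Finsupp.support_add.trans
      (Finset.union_subset hz.1 hδ), ?_, ?_, ?_⟩⟩
  · rw [xp_add, mul_smul, e₂]
    have hd : d + (γ + β).degree = d' + α.degree + γ.degree := by
      have := hz.2.2.1
      have := hb.2.2.1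
      rw [map_add]
      omega
    rw [hd]
    exact hE.xp_smul γ (hE.xp_smul α hb.2.1)
  · have := hz.2.2.1
    rw [hδm, map_add, map_add, Finsupp.degree_single]
    omega
  · rw [map_smul, ← hz.2.2.2, hδm, xp_add, xp_add, xp_single, smul_smul, smul_smul]
    congr 1
    ring

lemma exists_rmap_eq [DecidableEq ι] {D : ℕ → Submodule B V} (hD : IsFam (ι := ι) D) {e : ℤ}
    {s t : Finset ι} {k : ι} (h : s ⊆ t) (ht : t ⊆ insert k s)
    {w : Loc B V t} (hw : w ∈ Part D e t) :
    ∃ m₀ : ℕ, ∀ m ≥ m₀, ∃ z ∈ Part D (e + m) s,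
      rmap (B := B) h z = (X k : MvPolynomial ι B) ^ m • w := by
  rcases (mem_part hD).1 hw with rfl | ⟨β, d, b, hb⟩
  · exact ⟨0, fun m _ => ⟨0, zero_mem _, by simp⟩⟩
  obtain ⟨δ, m₀, hδ, rfl⟩ := exists_split ht hb.1
  refine ⟨m₀, fun m hm => ?_⟩
  obtain ⟨j, rfl⟩ : ∃ j, m = m₀ + j := ⟨m - m₀, by omega⟩
  obtain ⟨z, hz⟩ := (xp_smul_bijective hδ).surjective
    (toLoc B V s ((xp (Finsupp.single k j) : MvPolynomial ι B) • b))
  refine ⟨z, Rep.mem ⟨hδ, hD.xp_smul _ hb.2.1, ?_, hz⟩, ?_⟩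
  · have := hb.2.2.1
    rw [map_add, Finsupp.degree_single] at this
    rw [Finsupp.degree_single]
    omega
  · apply (xp_smul_bijective (hδ.trans h)).injective
    change (xp δ : MvPolynomial ι B) • rmap (B := B) h z = (xp δ : MvPolynomial ι B) • _
    rw [← map_smul, show (xp δ : MvPolynomial ι B) • z = _ from hz, rmap_toLoc, map_smul,
      ← hb.2.2.2, smul_smul, smul_smul, xp_add, xp_single, xp_single, pow_add]
    congr 1
    ring

lemma part_empty_le {D : ℕ → Submodule B V} (e : ℤ) :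
    Part D e (∅ : Finset ι) ≤ (D e.toNat).map ((toLoc B V ∅).restrictScalars B) := by
  refine part_le fun z α d a hz => ?_
  obtain rfl : α = 0 := Finsupp.support_eq_empty.1 (Finset.subset_empty.1 hz.1)
  have hd : d = e.toNat := by have := hz.2.2.1; simp at this; omega
  subst hd
  refine ⟨a, hz.2.1, ?_⟩
  simpa [xp] using hz.2.2.2.symm

lemma part_le_map {D : ℕ → Submodule B V} {s : Finset ι} (hs : s = ∅) (e : ℤ) :
    Part D e s ≤ (D e.toNat).map ((toLoc B V s).restrictScalars B) := by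
  subst hs
  exact part_empty_le e

lemma toLoc_mem_part {D : ℕ → Submodule B V} {d : ℕ} {a : V} (ha : a ∈ D d) (s : Finset ι) :
    toLoc B V s a ∈ Part D d s :=
  Rep.mem (α := 0) (d := d) (a := a) ⟨by simp, ha, by simp, by simp [xp]⟩

/-- The family `X k • D + E`. -/
noncomputable def addMulX (k : ι) (D E : ℕ → Submodule B V) : ℕ → Submodule B V
  | 0 => E 0
  | d + 1 => (D d).map (mulX (B := B) k) ⊔ E (d + 1)

lemma part_addMulX_le (k : ι) {D E : ℕ → Submodule B V} (e : ℤ) (s : Finset ι) :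
    Part (addMulX k D E) (e + 1) s ≤ (Part D e s).map (mulLoc B V k s) ⊔ Part E (e + 1) s := by
  refine part_le fun z α d a hz => ?_
  rcases d with _ | d
  · exact Submodule.mem_sup_right (Rep.mem ⟨hz.1, hz.2.1, hz.2.2⟩)
  obtain ⟨_, ⟨a', ha', rfl⟩, b, hb, hab⟩ := Submodule.mem_sup.1 hz.2.1
  obtain ⟨z₁, hz₁⟩ := (xp_smul_bijective hz.1).surjective (toLoc B V s a')
  obtain ⟨z₂, hz₂⟩ := (xp_smul_bijective hz.1).surjective (toLoc B V s b)
  have hzz : z = mulLoc B V k s z₁ + z₂ := by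
    apply (xp_smul_bijective hz.1).injective
    change (xp α : MvPolynomial ι B) • z = (xp α : MvPolynomial ι B) • _
    rw [hz.2.2.2, ← hab, smul_add, mulLoc_apply, smul_comm,
      show (xp α : MvPolynomial ι B) • z₁ = _ from hz₁,
      show (xp α : MvPolynomial ι B) • z₂ = _ from hz₂, map_add, mulX_apply, map_smul]
  rw [hzz]
  refine Submodule.add_mem_sup ⟨z₁, Rep.mem ⟨hz.1, ha', ?_, hz₁⟩, rfl⟩
    (Rep.mem ⟨hz.1, hb, hz.2.2.1, hz₂⟩)
  have := hz.2.2.1
  omega

end Groth.CohFin
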